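import Groth.Prelude.Def_BlowUp2
import Groth.Agent.H29Blow.Basic
import Groth.Agent.H26ModPair.Coprod
import Mathlib

/-! Being a blow-up is local on the base. -/

set_option autoImplicit false
universe u

open CategoryTheory CategoryTheory.Limits AlgebraicGeometry TopologicalSpace

namespace Groth.Agent.H11Strict

variable {X X' : Scheme.{u}} {b : X' ⟶ X} {I : X.IdealSheafData}

theorem hom_ext_over {W : X.Opens} (hW : BlowUp.IsBlowUp (b ∣_ W) (I.comap W.ι)) {T : Scheme.{u}}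
    (k k' : T ⟶ X') (g : T ⟶ X) (hk : k ≫ b = g) (hk' : k' ≫ b = g)
    (hg : BlowUp.IsEffCartierIdeal (I.comap g)) (hr : ∀ t, g t ∈ W) : k = k' := by
  have hr1 : ∀ {l : T ⟶ X'}, l ≫ b = g → Set.range l ⊆ Set.range (b ⁻¹ᵁ W).ι := by
    rintro l hl _ ⟨t, rfl⟩
    rw [Scheme.Opens.range_ι]
    show b (l t) ∈ W
    rw [← Scheme.Hom.comp_apply, hl]
    exact hr t
  let gW := IsOpenImmersion.lift W.ι g (by rintro _ ⟨t, rfl⟩; rw [Scheme.Opens.range_ι]; exact hr t)
  have hgW : gW ≫ W.ι = g := IsOpenImmersion.lift_fac _ _ _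
  have key : ∀ (l : T ⟶ X') (hl : l ≫ b = g),
      IsOpenImmersion.lift (b ⁻¹ᵁ W).ι l (hr1 hl) ≫ (b ∣_ W) = gW := fun l hl => by
    rw [← cancel_mono W.ι, Category.assoc, morphismRestrict_ι, ← Category.assoc,
      IsOpenImmersion.lift_fac, hl, hgW]
  obtain ⟨m, -, hu⟩ := hW.2 T gW (by rw [← Scheme.IdealSheafData.comap_comp, hgW]; exact hg)
  rw [← IsOpenImmersion.lift_fac (b ⁻¹ᵁ W).ι k (hr1 hk), ← IsOpenImmersion.lift_fac (b ⁻¹ᵁ W).ι k' (hr1 hk'),
    hu _ (key k hk), hu _ (key k' hk')]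

/-- Being a blow-up is local on the base. -/
theorem isBlowUp_of_cover {ι : Type u} (W : ι → X.Opens) (hW : IsOpenCover W)
    (h : ∀ i, BlowUp.IsBlowUp (b ∣_ W i) (I.comap (W i).ι)) : BlowUp.IsBlowUp b I := by
  have heff' : ∀ i : ι, BlowUp.IsEffCartierIdeal (I.comap (pullback.fst b (W i).ι ≫ b)) := fun i => by
    rw [← pullbackRestrictIsoRestrict_hom_ι, Category.assoc, ← morphismRestrict_ι, ← Category.assoc,
      Scheme.IdealSheafData.comap_comp, Scheme.IdealSheafData.comap_comp]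
    exact H29Blow.isEffCartierIdeal_comap_of_flat (h i).1 _
  have heff : BlowUp.IsEffCartierIdeal (I.comap b) := by
    refine H26ModPair.isEff_of_openCover ((X.openCoverOfIsOpenCover W hW).pullback₁ b) fun i => ?_
    rw [← Scheme.IdealSheafData.comap_comp]
    exact heff' i
  refine ⟨heff, fun Y g hg => ?_⟩
  let 𝒰 : Y.OpenCover := (X.openCoverOfIsOpenCover W hW).pullback₁ g
  have hg' : ∀ i, BlowUp.IsEffCartierIdeal (I.comap (pullback.fst g (W i).ι ≫ g)) := fun i => by
    rw [Scheme.IdealSheafData.comap_comp]; exact H29Blow.isEffCartierIdeal_comap_of_flat hg _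
  have hrg : ∀ i (t : (pullback g (W i).ι : Scheme.{u})), (pullback.fst g (W i).ι ≫ g) t ∈ W i := fun i t => by
    rw [pullback.condition]; exact (pullback.snd g (W i).ι t).2
  have key : ∀ i, ∃ k : pullback g (W i).ι ⟶ X', k ≫ b = pullback.fst g (W i).ι ≫ g := fun i => by
    obtain ⟨k, hk, -⟩ := (h i).2 _ (pullback.snd g (W i).ι) (by
      rw [← Scheme.IdealSheafData.comap_comp, ← pullback.condition]; exact hg' i)
    exact ⟨k ≫ (b ⁻¹ᵁ W i).ι, by rw [Category.assoc, ← morphismRestrict_ι, reassoc_of% hk, pullback.condition]⟩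
  choose k hk using key
  have hcompat : ∀ i j, pullback.fst (pullback.fst g (W i).ι) (pullback.fst g (W j).ι) ≫ k i =
      pullback.snd (pullback.fst g (W i).ι) (pullback.fst g (W j).ι) ≫ k j := fun i j => by
    refine hom_ext_over (h i) _ _ (pullback.fst (pullback.fst g (W i).ι) (pullback.fst g (W j).ι) ≫
        pullback.fst g (W i).ι ≫ g) (by rw [Category.assoc, hk]) ?_ ?_ (fun t => ?_)
    · rw [Category.assoc, hk, pullback.condition_assoc]
    · rw [Scheme.IdealSheafData.comap_comp]; exact H29Blow.isEffCartierIdeal_comap_of_flat (hg' i) _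
    · rw [Scheme.Hom.comp_apply]; exact hrg i _
  let H : Y ⟶ X' := Scheme.Cover.glueMorphisms 𝒰 k hcompat
  have hH : H ≫ b = g := Scheme.Cover.hom_ext 𝒰 _ _ fun i => by
    rw [← Category.assoc, Scheme.Cover.ι_glueMorphisms]; exact hk i
  refine ⟨H, hH, fun H' hH' => Scheme.Cover.hom_ext 𝒰 _ _ fun i => ?_⟩
  exact hom_ext_over (h i) (pullback.fst g (W i).ι ≫ H') (pullback.fst g (W i).ι ≫ H)
    (pullback.fst g (W i).ι ≫ g) (by rw [Category.assoc, hH']) (by rw [Category.assoc, hH]) (hg' i) (hrg i)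

end Groth.Agent.H11Strict
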