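import Groth.Prelude.Def_BlowUp2
import Groth.Agent.H26Blow.Affine
import Groth.Agent.H29Blow.Basic
import Mathlib

/-! An injective extension in which the ideal becomes free and stays inside `A` is the blow-up. -/

set_option autoImplicit false
universe u

open CategoryTheory CategoryTheory.Limits AlgebraicGeometry TopologicalSpace
open Groth.Agent.H26Blow

namespace Groth.Agent.H11Strict

theorem isBlowUp_iso_comp {X X' X'' : Scheme.{u}} {b : X' ⟶ X} {J : X.IdealSheafData}
    (hb : BlowUp.IsBlowUp b J) (e : X'' ≅ X') (he : BlowUp.IsEffCartierIdeal (J.comap (e.hom ≫ b))) :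
    BlowUp.IsBlowUp (e.hom ≫ b) J := by
  refine ⟨he, fun Y g hg => ?_⟩
  obtain ⟨h, hh, hu⟩ := hb.2 Y g hg
  refine ⟨h ≫ e.inv, by simp [hh], fun h' hh' => ?_⟩
  rw [← hu (h' ≫ e.hom) (by simp [hh']), Category.assoc, e.hom_inv_id, Category.comp_id]

variable {A : Type u} [CommRing A] (I : Ideal A) (a : I)

theorem isIso_j (hsq : ∀ x ∈ I, ∀ y ∈ I, ∃ z ∈ I, x * y = (a : A) * z) : IsIso (j I a) := by
  have hall : ∀ b : I, Proj.basicOpen (gr I) (T I b) ≤ Proj.basicOpen (gr I) (T I a) := by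
    intro b z hz
    rw [← opensRange_j] at hz
    obtain ⟨w, rfl⟩ := hz
    rw [mem_basicOpen_j]
    obtain ⟨c, hc, hbc⟩ := hsq b b.2 b b.2
    have hu : IsUnit (frac I b a) := by
      refine IsUnit.of_mul_eq_one (frac I b ⟨c, hc⟩) ?_
      refine (mul_cancel_right_mem_nonZeroDivisors
        (pow_mem (algebraMap_mem_nonZeroDivisors I b) 2)).1 ?_
      rw [one_mul, pow_two, mul_mul_mul_comm, frac_spec, frac_spec, ← map_mul, ← map_mul, hbc]
    intro hw
    exact w.isPrime.ne_top (Ideal.eq_top_of_isUnit_mem _ hw hu)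
  haveI : Surjective (j I a) := by
    constructor
    intro z
    have hz : z ∈ ⨆ b : I, Proj.basicOpen (gr I) (T I b) := by rw [iSup_basicOpen]; trivial
    obtain ⟨b, hb⟩ := Opens.mem_iSup.mp hz
    have := hall b hb
    rw [← opensRange_j] at this
    exact this
  exact (isIso_iff_isOpenImmersion_and_surjective (j I a)).mpr ⟨inferInstance, inferInstance⟩

theorem isBlowUp_Spec (B : Type u) [CommRing B] [Algebra A B]
    (hinj : Function.Injective (algebraMap A B))
    (hIB : (Ideal.map (algebraMap A B) I : Set B) ⊆ algebraMap A B '' (I : Set A))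
    (f : B) (hf : f ∈ nonZeroDivisors B) (hgen : Ideal.map (algebraMap A B) I = Ideal.span {f}) :
    BlowUp.IsBlowUp (Spec.map (CommRingCat.ofHom (algebraMap A B))) (centre I) := by
  have hfI : f ∈ Ideal.map (algebraMap A B) I := hgen ▸ Ideal.mem_span_singleton_self f
  obtain ⟨a₀, ha₀, hfa⟩ := hIB hfI
  let a : I := ⟨a₀, ha₀⟩
  have hI : ∀ x ∈ I, algebraMap A B x ∈ Ideal.span {algebraMap A B (a : A)} := fun x hx => by
    show _ ∈ Ideal.span {algebraMap A B a₀}
    rw [hfa, ← hgen]; exact Ideal.mem_map_of_mem _ hx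
  have hreg : algebraMap A B (a : A) ∈ nonZeroDivisors B := by
    show algebraMap A B a₀ ∈ _
    rw [hfa]; exact hf
  obtain ⟨ψ, hψ, -⟩ := existsUnique_lift I a (algebraMap A B) hreg hI
  have hψ' : ∀ x, ψ (algebraMap A _ x) = algebraMap A B x := RingHom.congr_fun hψ
  have hbij : Function.Bijective ψ := by
    refine ⟨(injective_iff_map_eq_zero ψ).mpr fun z hz => ?_, fun b => ?_⟩
    · obtain ⟨⟨r, s⟩, hrs⟩ := IsLocalization.surj (Submonoid.powers (a : A)) (z : Localization.Away (a : A))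
      obtain ⟨_, n, rfl⟩ := s
      have h1 : z * algebraMap A (Alg I a) ((a : A) ^ n) = algebraMap A (Alg I a) r := Subtype.ext hrs
      have h2 : algebraMap A B r = 0 := by rw [← hψ', ← h1, map_mul, hz, zero_mul]
      rw [(injective_iff_map_eq_zero _).mp hinj r h2, map_zero, map_pow] at h1
      exact (mem_nonZeroDivisors_iff.mp (pow_mem (algebraMap_mem_nonZeroDivisors I a) n)).2 _ h1
    · have hb : b * f ∈ Ideal.map (algebraMap A B) I := Ideal.mul_mem_left _ _ hfI
      obtain ⟨x, hx, hbx⟩ := hIB hb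
      refine ⟨frac I a ⟨x, hx⟩, (mul_cancel_right_mem_nonZeroDivisors hreg).1 ?_⟩
      rw [← hψ', ← map_mul, frac_spec, hψ', hψ']
      show algebraMap A B x = b * algebraMap A B a₀
      rw [hfa, hbx]
  have hsq : ∀ x ∈ I, ∀ y ∈ I, ∃ z ∈ I, x * y = (a : A) * z := by
    intro x hx y hy
    obtain ⟨t, ht⟩ := Ideal.mem_span_singleton'.1 (hI x hx)
    obtain ⟨z, hz, hzt⟩ := hIB (Ideal.mul_mem_left _ t (Ideal.mem_map_of_mem _ hy))
    refine ⟨z, hz, hinj ?_⟩
    rw [map_mul, map_mul, hzt, ← ht]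
    ring
  haveI := isIso_j I a hsq
  let e := RingEquiv.ofBijective ψ hbij
  let φ : Spec (CommRingCat.of B) ≅ Proj (gr I) :=
    Scheme.Spec.mapIso e.toCommRingCatIso.op ≪≫ asIso (j I a)
  have hφ : φ.hom ≫ π I = Spec.map (CommRingCat.ofHom (algebraMap A B)) := by
    show (Spec.map e.toCommRingCatIso.hom ≫ j I a) ≫ π I = _
    rw [Category.assoc, j_π, ← Spec.map_comp]
    congr 1
    ext x
    exact hψ' x
  rw [← hφ]
  refine isBlowUp_iso_comp (isBlowUp_π I) φ ?_
  rw [Scheme.IdealSheafData.comap_comp]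
  intro y
  obtain ⟨U, hU, g, hg, hgU⟩ := (isBlowUp_π I).1 (φ.hom y)
  refine ⟨⟨φ.hom ⁻¹ᵁ U.1, U.2.preimage φ.hom⟩, hU, φ.hom.app U.1 g, ?_, ?_⟩
  · haveI : IsIso (φ.hom.app U.1) := inferInstance
    let e' := (asIso (φ.hom.app U.1)).commRingCatIsoToRingEquiv
    show e' g ∈ _
    rw [mem_nonZeroDivisors_iff_right]
    intro w hw
    obtain ⟨v, rfl⟩ := e'.surjective w
    rw [← map_mul] at hw
    rw [(mem_nonZeroDivisors_iff_right.mp hg) v (e'.injective (hw.trans (map_zero e').symm)), map_zero]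
  · rw [H29Blow.ideal_comap _ φ.hom U _ le_rfl, hgU, Ideal.map_span, Set.image_singleton,
      Scheme.Hom.appLE_eq_app]

end Groth.Agent.H11Strict
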