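import Groth.Agent.H11Strict.SeparateExists
import Groth.Agent.H11Strict.BlowLocal
import Groth.Agent.H26Blow.Exists
import Groth.Agent.H11Strict.FreeExt
import Groth.Agent.S1680

/-! Extending and dominating admissible blow-ups. -/

set_option autoImplicit false
set_option linter.style.haveILetI false
universe u

open CategoryTheory CategoryTheory.Limits AlgebraicGeometry TopologicalSpace

namespace Groth.Agent.H11Strict

theorem isFiniteTypeIdeal_comap {X Y : Scheme.{u}} (g : Y ⟶ X) {I : X.IdealSheafData}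
    (hI : BlowUp.IsFiniteTypeIdeal I) : BlowUp.IsFiniteTypeIdeal (I.comap g) := fun A => by
  refine H7Lim.fg_of_cover A.2 _ fun y hy => ?_
  obtain ⟨U, hU, hyU, -⟩ := exists_isAffineOpen_mem_and_subset (U := ⊤) (x := g y) trivial
  obtain ⟨r, hr, hyr⟩ := A.2.exists_basicOpen_le (V := g ⁻¹ᵁ U) ⟨y, hyU⟩ hy
  refine ⟨r, hyr, ?_⟩
  have e : (I.comap g).ideal ⟨Y.basicOpen r, A.2.basicOpen r⟩ =
      ((I.comap g).ideal A).map (Y.presheaf.map (homOfLE (Y.basicOpen_le r)).op).hom :=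
    ((I.comap g).map_ideal (U := ⟨Y.basicOpen r, A.2.basicOpen r⟩) (V := A) (Y.basicOpen_le r)).symm
  rw [H29Blow.ideal_comap I g ⟨U, hU⟩ ⟨Y.basicOpen r, A.2.basicOpen r⟩ hr] at e
  exact e ▸ Ideal.FG.map (hI _) _

theorem comap_prod {X Y : Scheme.{u}} (g : Y ⟶ X) {ι : Type*} (s : Finset ι) (I : ι → X.IdealSheafData) :
    (∏ i ∈ s, I i).comap g = ∏ i ∈ s, (I i).comap g := by
  classical
  induction s using Finset.induction with
  | empty => simp only [Finset.prod_empty, Scheme.IdealSheafData.one_eq_top, Scheme.IdealSheafData.comap_top]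
  | insert a s ha ih => rw [Finset.prod_insert ha, Finset.prod_insert ha, H29Blow.comap_mul, ih]

theorem isFiniteTypeIdeal_top {X : Scheme.{u}} : BlowUp.IsFiniteTypeIdeal (⊤ : X.IdealSheafData) := fun A => by
  exact ⟨{1}, by simp⟩

theorem isFiniteTypeIdeal_prod {X : Scheme.{u}} {ι : Type*} (s : Finset ι) (I : ι → X.IdealSheafData)
    (h : ∀ i, BlowUp.IsFiniteTypeIdeal (I i)) : BlowUp.IsFiniteTypeIdeal (∏ i ∈ s, I i) := by
  classical
  induction s using Finset.induction with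
  | empty => simpa using isFiniteTypeIdeal_top
  | insert a s ha ih => rw [Finset.prod_insert ha]; exact isFiniteTypeIdeal_mul (h a) ih

theorem disjoint_support_prod {X : Scheme.{u}} {ι : Type*} (s : Finset ι) (I : ι → X.IdealSheafData) (U : Set X)
    (h : ∀ i, Disjoint ((I i).support : Set X) U) : Disjoint ((∏ i ∈ s, I i).support : Set X) U := by
  classical
  induction s using Finset.induction with
  | empty => simp [Scheme.IdealSheafData.one_eq_top]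
  | insert a s ha ih =>
    rw [Finset.prod_insert ha, Scheme.IdealSheafData.support_mul, Closeds.coe_sup]
    exact Disjoint.union_left (h a) ih

/-- The blow-up in a product dominates the blow-up in each factor, and is a blow-up of it. -/
theorem isBlowUp_of_factor {X X₁ X' : Scheme.{u}} {I J : X.IdealSheafData} {b : X₁ ⟶ X} {c : X' ⟶ X}
    (hb : BlowUp.IsBlowUp b I) (hc : BlowUp.IsBlowUp c (I * J)) :
    ∃ g : X' ⟶ X₁, g ≫ b = c ∧ BlowUp.IsBlowUp g ((I * J).comap b) := by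
  have hc1 := hc.1
  rw [H29Blow.comap_mul] at hc1
  obtain ⟨g, hg, -⟩ := hb.2 X' c (H29Blow.isEffCartierIdeal_left_of_mul hc1)
  refine ⟨g, hg, ?_, fun Y h hh => ?_⟩
  · rw [← Scheme.IdealSheafData.comap_comp, hg]; exact hc.1
  rw [← Scheme.IdealSheafData.comap_comp] at hh
  obtain ⟨m, hm, hmu⟩ := hc.2 Y (h ≫ b) hh
  have hI : BlowUp.IsEffCartierIdeal (I.comap (h ≫ b)) :=
    H29Blow.isEffCartierIdeal_left_of_mul (H29Blow.comap_mul I J (h ≫ b) ▸ hh)
  obtain ⟨n, -, hnu⟩ := hb.2 Y (h ≫ b) hI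
  refine ⟨m, (hnu (m ≫ g) (by show (m ≫ g) ≫ b = _; rw [Category.assoc, hg, hm])).trans (hnu h rfl).symm,
    fun m' hm' => hmu m' ?_⟩
  show m' ≫ c = _
  rw [← hg, ← Category.assoc, hm']

theorem exists_dominating {X : Scheme.{u}} {n : ℕ} (Xi : Fin n → Scheme.{u}) (b : ∀ i, Xi i ⟶ X) (U : X.Opens)
    (𝓘 : Fin n → X.IdealSheafData) (hb : ∀ i, BlowUp.IsBlowUp (b i) (𝓘 i))
    (ha : ∀ i, BlowUp.IsAdmissibleFor U (𝓘 i)) :
    ∃ (𝓙 : X.IdealSheafData) (X' : Scheme.{u}) (c : X' ⟶ X), BlowUp.IsBlowUp c 𝓙 ∧ BlowUp.IsAdmissibleFor U 𝓙 ∧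
      ∀ i, ∃ (g : X' ⟶ Xi i) (𝓚 : (Xi i).IdealSheafData), g ≫ b i = c ∧ BlowUp.IsBlowUp g 𝓚 ∧
        BlowUp.IsAdmissibleFor ((b i) ⁻¹ᵁ U) 𝓚 := by
  classical
  let J := ∏ i, 𝓘 i
  have hJ : BlowUp.IsAdmissibleFor U J :=
    ⟨isFiniteTypeIdeal_prod _ _ fun i => (ha i).1, disjoint_support_prod _ _ _ fun i => (ha i).2⟩
  obtain ⟨X', c, hc⟩ := H26Blow.exists_isBlowUp J
  refine ⟨J, X', c, hc, hJ, fun i => ?_⟩
  have hc' : BlowUp.IsBlowUp c (𝓘 i * ∏ j ∈ Finset.univ.erase i, 𝓘 j) := by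
    rwa [Finset.mul_prod_erase _ _ (Finset.mem_univ i)]
  obtain ⟨g, hg, hg'⟩ := isBlowUp_of_factor (hb i) hc'
  rw [Finset.mul_prod_erase _ _ (Finset.mem_univ i)] at hg'
  refine ⟨g, J.comap (b i), hg, hg', isFiniteTypeIdeal_comap _ hJ.1, ?_⟩
  rw [Scheme.IdealSheafData.support_comap]
  exact Set.disjoint_left.mpr fun y hy hyU => Set.disjoint_left.mp hJ.2 (show b i y ∈ (J.support : Set X) from hy) hyU

theorem exists_ft_le_of_finset {X : Scheme.{u}} [CompactSpace X] [QuasiSeparatedSpace X] (I : X.IdealSheafData)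
    {κ : Type*} (t : Finset κ) (A : κ → X.affineOpens) (s : ∀ k, Finset Γ(X, A k))
    (hs : ∀ k, (s k : Set Γ(X, A k)) ⊆ I.ideal (A k)) :
    ∃ J ≤ I, BlowUp.IsFiniteTypeIdeal J ∧ ∀ k ∈ t, (s k : Set Γ(X, A k)) ⊆ J.ideal (A k) := by
  classical
  induction t using Finset.induction with
  | empty =>
    refine ⟨⊥, bot_le, fun V => ?_, by simp⟩
    exact ⟨∅, by simp⟩
  | insert a t _ ih =>
    obtain ⟨J, hJ, hft, hsJ⟩ := ih
    obtain ⟨J', hJ', hft', hsJ'⟩ := H7Lim.exists_finiteType_le I (A a) (s a) (hs a)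
    refine ⟨J ⊔ J', sup_le hJ hJ', isFiniteTypeIdeal_sup hft hft', fun k hk => ?_⟩
    rcases Finset.mem_insert.mp hk with rfl | hk
    · exact hsJ'.trans ((le_sup_right : J' ≤ J ⊔ J') (A k))
    · exact (hsJ k hk).trans ((le_sup_left : J ≤ J ⊔ J') (A k))

theorem exists_admissible_extension {X : Scheme.{u}} [CompactSpace X] [QuasiSeparatedSpace X] (U V : X.Opens)
    (hU : IsCompact (U : Set X)) (hV : IsCompact (V : Set X)) (I : (V : Scheme.{u}).IdealSheafData)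
    (hI : BlowUp.IsAdmissibleFor (V.ι ⁻¹ᵁ U) I) :
    ∃ J : X.IdealSheafData, BlowUp.IsAdmissibleFor U J ∧ J.comap V.ι = I := by
  classical
  haveI : QuasiCompact V.ι := quasiCompact_ι V hV
  let J₁ := I.map V.ι
  have hd : Disjoint (J₁.support : Set X) (U : Set X) := by
    haveI : QuasiCompact I.subschemeι := inferInstance
    show Disjoint ((I.subschemeι ≫ V.ι).ker.support : Set X) (U : Set X)
    rw [Scheme.Hom.support_ker]
    refine Set.disjoint_left.mpr fun x hx hxU => ?_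
    obtain ⟨_, hwU, w, rfl⟩ := mem_closure_iff.mp hx U U.2 hxU
    refine Set.disjoint_left.mp hI.2 ?_ (show I.subschemeι w ∈ (V.ι ⁻¹ᵁ U : Set V.toScheme) from hwU)
    rw [← Scheme.IdealSheafData.range_subschemeι]
    exact ⟨w, rfl⟩
  obtain ⟨F, hF, hFft, hFd⟩ := exists_ft_le_disjoint J₁ U hU hd
  obtain ⟨S, hS, hSeq⟩ := isCompact_iff_finite_and_eq_biUnion_affineOpens.1 hV
  have hgen : ∀ A : S, ∃ (hA : IsAffineOpen (V.ι ⁻¹ᵁ A.1.1)) (s : Finset Γ(X, A.1.1)),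
      (s : Set Γ(X, A.1.1)) ⊆ J₁.ideal A.1 ∧
      I.ideal ⟨_, hA⟩ ≤ (Ideal.span (s : Set Γ(X, A.1.1))).map (V.ι.app A.1.1).hom := fun A => by
    have hAV : A.1.1 ≤ V := (le_iSup₂ A.1 A.2).trans_eq hSeq.symm
    have hle : A.1.1 ≤ V.ι.opensRange := hAV.trans_eq (Scheme.Opens.opensRange_ι V).symm
    have hA : IsAffineOpen (V.ι ⁻¹ᵁ A.1.1) := A.1.2.preimage_of_isOpenImmersion V.ι hle
    haveI := V.ι.isIso_app A.1.1 hle
    obtain ⟨t, ht⟩ := hI.1 ⟨_, hA⟩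
    refine ⟨hA, t.image (inv (V.ι.app A.1.1)), ?_, ?_⟩
    · rw [Finset.coe_image]
      rintro _ ⟨z, hz, rfl⟩
      rw [SetLike.mem_coe, Scheme.IdealSheafData.ideal_map I V.ι A.1 hA, Ideal.mem_comap]
      show (inv (V.ι.app A.1.1) ≫ V.ι.app A.1.1) z ∈ _
      rw [IsIso.inv_hom_id]
      exact ht ▸ Ideal.subset_span hz
    · rw [← ht, Finset.coe_image, Ideal.map_span, Ideal.span_le]
      intro z hz
      refine Ideal.subset_span ⟨_, ⟨z, hz, rfl⟩, ?_⟩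
      show (inv (V.ι.app A.1.1) ≫ V.ι.app A.1.1) z = z
      rw [IsIso.inv_hom_id]; rfl
  choose hA s hs hsI using hgen
  haveI := hS.fintype
  obtain ⟨G, hG, hGft, hGs⟩ := exists_ft_le_of_finset J₁ (Finset.univ : Finset S) (fun A => A.1) s hs
  refine ⟨F ⊔ G, ⟨isFiniteTypeIdeal_sup hFft hGft, Set.disjoint_left.mpr fun x hx hxU =>
    Set.disjoint_left.mp hFd (Scheme.IdealSheafData.support_antitone (le_sup_left : F ≤ F ⊔ G) hx) hxU⟩, ?_⟩
  refine le_antisymm ?_ (fun B => ?_)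
  · exact (Scheme.IdealSheafData.comap_mono V.ι (sup_le hF hG)).trans (Scheme.IdealSheafData.comap_map_le I V.ι)
  refine fun a ha => H7Lim.mem_of_cover B.2 _ _ fun y hy => ?_
  obtain ⟨A, hyA⟩ : ∃ A : S, V.ι y ∈ A.1.1 := by
    have h : V.ι y ∈ (⨆ A ∈ S, (A.1 : X.Opens)) := hSeq.le y.2
    simpa [Opens.mem_iSup] using h
  obtain ⟨r, hr, hyr⟩ := B.2.exists_basicOpen_le (V := V.ι ⁻¹ᵁ A.1.1) ⟨y, hyA⟩ hy
  refine ⟨r, hyr, ?_⟩
  have key : I.ideal ⟨_, B.2.basicOpen r⟩ ≤ ((F ⊔ G).comap V.ι).ideal ⟨_, B.2.basicOpen r⟩ := by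
    rw [← I.map_ideal (U := ⟨_, B.2.basicOpen r⟩) (V := ⟨_, hA A⟩) hr,
      ← Scheme.IdealSheafData.map_ideal ((F ⊔ G).comap V.ι) (U := ⟨_, B.2.basicOpen r⟩) (V := ⟨_, hA A⟩) hr]
    refine Ideal.map_mono ((hsI A).trans ?_)
    rw [H29Blow.ideal_comap (F ⊔ G) V.ι A.1 ⟨_, hA A⟩ le_rfl, ← Scheme.Hom.app_eq_appLE]
    exact Ideal.map_mono ((Ideal.span_le.mpr (hGs A (Finset.mem_univ A))).trans ((le_sup_right : G ≤ F ⊔ G) A.1))
  have h1 := Ideal.mem_map_of_mem ((V : Scheme.{u}).presheaf.map (homOfLE ((V : Scheme.{u}).basicOpen_le r)).op).hom ha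
  have h2 := key ((I.map_ideal (U := ⟨_, B.2.basicOpen r⟩) (V := B) ((V : Scheme.{u}).basicOpen_le r)).le h1)
  exact (Scheme.IdealSheafData.map_ideal ((F ⊔ G).comap V.ι) (U := ⟨_, B.2.basicOpen r⟩) (V := B)
    ((V : Scheme.{u}).basicOpen_le r)).ge h2

theorem isBlowUp_restrict_opens {X X' : Scheme.{u}} {b : X' ⟶ X} {J : X.IdealSheafData}
    (hb : BlowUp.IsBlowUp b J) (V : X.Opens) : BlowUp.IsBlowUp (b ∣_ V) (J.comap V.ι) := by
  have h := S1680.result V.ι J b hb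
  let e := (pullbackRestrictIsoRestrict b V).symm ≪≫ pullbackSymmetry b V.ι
  have he : e.hom ≫ pullback.fst V.ι b = b ∣_ V := by
    rw [← cancel_mono V.ι]
    simp [e, pullbackRestrictIsoRestrict_inv_fst_assoc, ← pullback.condition]
  rw [← he]
  refine isBlowUp_iso_comp h e ?_
  rw [Scheme.IdealSheafData.comap_comp]
  exact H29Blow.isEffCartierIdeal_comap_of_flat h.1 _

end Groth.Agent.H11Strict
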