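import Groth.Prelude.Def_BlowUp2
import Groth.Agent.H29Blow.Basic
import Groth.Agent.H7Lim.IdealExtension
import Mathlib

/-! Residual of an effective Cartier divisor in a closed subscheme containing it (after H27CurveDiv.SumDiff). -/

set_option autoImplicit false
set_option linter.style.haveILetI false
universe u

open CategoryTheory CategoryTheory.Limits AlgebraicGeometry
open H29Blow

namespace Groth.Agent.H11Strict

variable {X : Scheme.{u}}

/-- The ideals of an effective Cartier divisor are finitely generated. -/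
theorem fg_cartier {I : X.IdealSheafData} (hI : BlowUp.IsEffCartierIdeal I) (W : X.affineOpens) :
    (I.ideal W).FG := by
  refine H7Lim.fg_of_cover W.2 _ fun y hy => ?_
  obtain ⟨V, hyV, hVW, a, -, haV⟩ := exists_gen hI (W := W.1) (x := y) hy
  obtain ⟨g, hgle, hyg⟩ := W.2.exists_basicOpen_le ⟨y, hyV⟩ hy
  refine ⟨g, hyg, ?_⟩
  have h2 : (I.ideal W).map (X.presheaf.map (homOfLE (X.basicOpen_le g)).op).hom =
      I.ideal (X.affineBasicOpen g) := I.map_ideal (U := X.affineBasicOpen g) (V := W) (X.basicOpen_le g)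
  have h3 : (I.ideal V).map (X.presheaf.map (homOfLE hgle).op).hom =
      I.ideal (X.affineBasicOpen g) := I.map_ideal (U := X.affineBasicOpen g) (V := V) hgle
  have h4 : (I.ideal (X.affineBasicOpen g)).FG := by
    rw [← h3]
    exact (haV ▸ Submodule.fg_span_singleton a : (I.ideal V).FG).map _
  rw [← h2] at h4
  exact h4

/-- A divisor contained in another is a summand of it. -/
theorem exists_eq_mul {I₁ I₂ : X.IdealSheafData} (h₁ : BlowUp.IsEffCartierIdeal I₁) (hle : I₂ ≤ I₁) :
    ∃ K : X.IdealSheafData, I₁ * K = I₂ := by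
  classical
  let K : ∀ U : X.affineOpens, Ideal Γ(X, U) := fun U => (I₂.ideal U).colon (I₁.ideal U : Set _)
  have hK : ∀ (U : X.affineOpens) (r : Γ(X, U)), r ∈ K U ↔ ∀ p ∈ I₁.ideal U, r * p ∈ I₂.ideal U :=
    fun U r => Submodule.mem_colon
  refine ⟨{ ideal := K, map_ideal_basicOpen := fun U g => ?_ }, ?_⟩
  · set W := X.affineBasicOpen g
    set ρ : Γ(X, U.1) →+* Γ(X, X.basicOpen g) := (X.presheaf.map (homOfLE (X.basicOpen_le g)).op).hom
    letI : Algebra Γ(X, U.1) Γ(X, X.basicOpen g) := ρ.toAlgebra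
    haveI : IsLocalization.Away g Γ(X, X.basicOpen g) := U.2.isLocalization_basicOpen g
    let J₁ : Ideal Γ(X, X.basicOpen g) := I₁.ideal W
    let J₂ : Ideal Γ(X, X.basicOpen g) := I₂.ideal W
    let KW : Ideal Γ(X, X.basicOpen g) := K W
    have e₁ : (I₁.ideal U).map ρ = J₁ := I₁.map_ideal_basicOpen U g
    have e₂ : (I₂.ideal U).map ρ = J₂ := I₂.map_ideal_basicOpen U g
    have hKW : ∀ r : Γ(X, X.basicOpen g), r ∈ KW ↔ ∀ p ∈ J₁, r * p ∈ J₂ := hK W
    change (K U).map ρ = KW
    refine le_antisymm (Ideal.map_le_iff_le_comap.mpr fun r hr => (hKW _).mpr fun p hp => ?_)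
      fun r hr => ?_
    · rw [← e₁] at hp
      induction hp using Submodule.span_induction with
      | mem p hp =>
        obtain ⟨p, hp, rfl⟩ := hp
        rw [← map_mul, ← e₂]
        exact Ideal.mem_map_of_mem _ ((hK U r).mp hr p hp)
      | zero => simp
      | add p q _ _ hp hq => rw [mul_add]; exact add_mem hp hq
      | smul c p _ hp => rw [smul_eq_mul, mul_left_comm]; exact Ideal.mul_mem_left _ c hp
    · obtain ⟨⟨r, s⟩, hrs⟩ := IsLocalization.surj (Submonoid.powers g) r
      obtain ⟨t, ht⟩ := fg_cartier h₁ U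
      have h : ∀ i ∈ t, ∃ m ∈ Submonoid.powers g, m * (r * i) ∈ I₂.ideal U := fun i hi => by
        refine (IsLocalization.algebraMap_mem_map_algebraMap_iff (Submonoid.powers g) Γ(X, X.basicOpen g) _ _).mp ?_
        change ρ (r * i) ∈ (I₂.ideal U).map ρ
        rw [e₂, map_mul]
        refine (hKW _).mp ?_ _ (e₁ ▸ Ideal.mem_map_of_mem ρ (ht ▸ Ideal.subset_span hi))
        rw [show ρ r = _ from hrs.symm]
        exact Ideal.mul_mem_right _ _ hr
      choose! m hm hmr using h
      let M := ∏ i ∈ t, m i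
      have hM : M ∈ Submonoid.powers g := prod_mem hm
      have hMr : M * r ∈ K U := by
        refine (hK U _).mpr fun p hp => ?_
        rw [← ht] at hp
        induction hp using Submodule.span_induction with
        | mem p hp =>
          obtain ⟨d, hd⟩ := Finset.dvd_prod_of_mem m hp
          rw [show M * r * p = d * (m p * (r * p)) by rw [show M = m p * d from hd]; ring]
          exact Ideal.mul_mem_left _ d (hmr p hp)
        | zero => simp
        | add p q _ _ hp hq => rw [mul_add]; exact add_mem hp hq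
        | smul c p _ hp => rw [smul_eq_mul, mul_left_comm]; exact Ideal.mul_mem_left _ c hp
      have hu : IsUnit (ρ M) := IsLocalization.map_units Γ(X, X.basicOpen g) (⟨M, hM⟩ : Submonoid.powers g)
      have hs : IsUnit (ρ (s : Γ(X, U.1))) := IsLocalization.map_units Γ(X, X.basicOpen g) s
      have h5 := Ideal.mem_map_of_mem ρ hMr
      rw [map_mul, Ideal.unit_mul_mem_iff_mem _ hu, show ρ r = _ from hrs.symm] at h5
      exact (Ideal.mul_unit_mem_iff_mem _ hs).mp h5
  · refine ext_of_forall_exists fun x => ?_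
    obtain ⟨V, hxV, -, a, -, haV⟩ := exists_gen h₁ (W := ⊤) (x := x) trivial
    refine ⟨V, hxV, le_antisymm ?_ ?_⟩
    · rw [Scheme.IdealSheafData.ideal_mul, Pi.mul_apply, Ideal.mul_le]
      intro p hp r hr
      rw [mul_comm]
      exact (hK V r).mp hr p hp
    · intro q hq
      rw [Scheme.IdealSheafData.ideal_mul, Pi.mul_apply, haV, Ideal.mem_span_singleton_mul]
      obtain ⟨c, rfl⟩ := Ideal.mem_span_singleton'.mp (haV ▸ hle V hq)
      refine ⟨c, (hK V c).mpr fun p hp => ?_, mul_comm a c⟩
      obtain ⟨d, rfl⟩ := Ideal.mem_span_singleton'.mp (haV ▸ hp)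
      rw [mul_left_comm]
      exact Ideal.mul_mem_left _ d hq

end Groth.Agent.H11Strict
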