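import Groth.Agent.H26Blow.Exists
import Groth.Agent.H26Blow.Affine
import Groth.Agent.S1680

/-! Affine charts of a blow-up. -/

set_option autoImplicit false
set_option linter.style.haveILetI false
set_option backward.isDefEq.respectTransparency false
universe u

open CategoryTheory CategoryTheory.Limits AlgebraicGeometry TopologicalSpace Opposite
open Groth.Agent.H26Blow

namespace Groth.Agent.H11Strict.BlowProj

variable {X X' : Scheme.{u}} {b : X' ⟶ X} {𝓘 : X.IdealSheafData}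

theorem appLE_congr_hom' {X Y : Scheme.{u}} {g g' : X ⟶ Y} (h : g = g') {U : Y.Opens} {V : X.Opens}
    (e : V ≤ g ⁻¹ᵁ U) (e' : V ≤ g' ⁻¹ᵁ U) : g.appLE U V e = g'.appLE U V e' := by
  subst h; rfl

theorem comap_fromSpec_centre {Y : Scheme.{u}} (I : Y.IdealSheafData) {U : Y.Opens} (hU : IsAffineOpen U) :
    I.comap hU.fromSpec = centre (A := Γ(Y, U)) (I.ideal ⟨U, hU⟩) := by
  refine Scheme.IdealSheafData.ext_of_isAffine ?_
  rw [ideal_centre_top,
    H29Blow.ideal_comap I hU.fromSpec ⟨U, hU⟩ ⟨⊤, isAffineOpen_top _⟩ (by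
      intro z _; show hU.fromSpec z ∈ (U : Set Y)
      rw [← hU.range_fromSpec]; exact Set.mem_range_self z)]
  congr 1
  congr 1
  simp [Scheme.Hom.appLE, IsAffineOpen.fromSpec_app_self, ← Functor.map_comp]
  rfl

variable (hb : BlowUp.IsBlowUp b 𝓘)

include hb in
theorem exists_proj_chart (V : X.affineOpens) : ∃ (k : Proj (gr (𝓘.ideal V)) ⟶ X') (_ : IsOpenImmersion k),
    k ≫ b = π (𝓘.ideal V) ≫ V.2.fromSpec ∧ k.opensRange = b ⁻¹ᵁ V.1 := by
  have h1 := S1680.result V.2.fromSpec 𝓘 b hb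
  rw [comap_fromSpec_centre 𝓘 V.2] at h1
  obtain ⟨e, he⟩ := exists_iso_of_isBlowUp (isBlowUp_π (𝓘.ideal V)) h1
  refine ⟨e.hom ≫ pullback.snd V.2.fromSpec b, inferInstance, ?_, ?_⟩
  · rw [Category.assoc, ← pullback.condition, ← Category.assoc, he]
  · rw [Scheme.Hom.opensRange_comp_of_isIso, Scheme.Hom.opensRange_pullbackSnd,
      IsAffineOpen.opensRange_fromSpec]

section

variable {V : X.affineOpens} (k : Proj (gr (𝓘.ideal V)) ⟶ X') [IsOpenImmersion k]
  (hk : k ≫ b = π (𝓘.ideal V) ≫ V.2.fromSpec) (a : 𝓘.ideal V)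

/-- The chart at a member of the ideal. -/
noncomputable abbrev cO : X'.Opens := (j (𝓘.ideal V) a ≫ k).opensRange

omit [IsOpenImmersion k] in
include hk in
theorem j_comp : (j (𝓘.ideal V) a ≫ k) ≫ b =
    Spec.map (CommRingCat.ofHom (algebraMap Γ(X, V.1) (Alg (𝓘.ideal V) a))) ≫ V.2.fromSpec := by
  rw [Category.assoc, hk, ← Category.assoc, j_π]

include hk in
theorem cO_le : cO k a ≤ b ⁻¹ᵁ V.1 := by
  rintro _ ⟨w, rfl⟩
  show b ((j (𝓘.ideal V) a ≫ k) w) ∈ V.1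
  rw [← Scheme.Hom.comp_apply, j_comp k hk]
  exact V.2.range_fromSpec.le ⟨_, rfl⟩

theorem cO_affine : IsAffineOpen (cO k a) := isAffineOpen_opensRange _

/-- The ring of a chart. -/
noncomputable def φ : Γ(X', cO k a) →+* Alg (𝓘.ideal V) a :=
  ((j (𝓘.ideal V) a ≫ k).appLE (cO k a) ⊤ (fun w _ => ⟨w, rfl⟩) ≫
    (Scheme.ΓSpecIso (CommRingCat.of (Alg (𝓘.ideal V) a))).hom).hom

theorem φ_bijective : Function.Bijective (φ k a) := by
  haveI : IsIso ((j (𝓘.ideal V) a ≫ k).appLE (cO k a) ⊤ (fun w _ => ⟨w, rfl⟩)) := by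
    haveI : IsIso ((j (𝓘.ideal V) a ≫ k).app (cO k a)) := Scheme.Hom.isIso_app _ _ le_rfl
    rw [Scheme.Hom.appLE, show (homOfLE (fun w _ => ⟨w, rfl⟩ :
      (⊤ : (Spec (CommRingCat.of (Alg (𝓘.ideal V) a))).Opens) ≤ (j (𝓘.ideal V) a ≫ k) ⁻¹ᵁ cO k a)).op =
        (eqToHom (le_antisymm (fun w _ => ⟨w, rfl⟩) le_top)).op from rfl]
    infer_instance
  exact ConcreteCategory.bijective_of_isIso _

include hk in
theorem φ_appLE (e : cO k a ≤ b ⁻¹ᵁ V.1) (r : Γ(X, V.1)) : φ k a (b.appLE V.1 (cO k a) e r) = algebraMap _ _ r := by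
  show (b.appLE V.1 (cO k a) e ≫ _ ≫ _) r = _
  rw [← Category.assoc, Scheme.Hom.appLE_comp_appLE, appLE_congr_hom' (j_comp k hk a) _ (fun w _ => by
    show Spec.map _ w ∈ V.2.fromSpec ⁻¹ᵁ V.1
    rw [V.2.fromSpec_preimage_self]; trivial)]
  rw [← Scheme.Hom.appLE_comp_appLE _ V.2.fromSpec V.1 ⊤ ⊤ V.2.fromSpec_preimage_self.ge le_top,
    show V.2.fromSpec.appLE V.1 ⊤ V.2.fromSpec_preimage_self.ge = (Scheme.ΓSpecIso Γ(X, V.1)).inv by
      rw [Scheme.Hom.appLE, V.2.fromSpec_app_self, Category.assoc, ← Functor.map_comp]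
      convert Category.comp_id _
      exact (Spec Γ(X, V.1)).presheaf.map_id _]
  have : (Scheme.ΓSpecIso Γ(X, V.1)).inv ≫
      (Spec.map (CommRingCat.ofHom (algebraMap Γ(X, V.1) (Alg (𝓘.ideal V) a)))).appLE ⊤ ⊤ le_top ≫
      (Scheme.ΓSpecIso (CommRingCat.of (Alg (𝓘.ideal V) a))).hom =
      CommRingCat.ofHom (algebraMap Γ(X, V.1) (Alg (𝓘.ideal V) a)) := by
    refine (Iso.inv_comp_eq _).mpr ?_
    refine Eq.trans ?_ (Scheme.ΓSpecIso_naturality _)
    rw [Scheme.Hom.appTop, Scheme.Hom.app_eq_appLE]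
    rfl
  rw [Category.assoc, this]
  rfl

include hk in
theorem ideal_cO : (BlowUp.exceptional b 𝓘).ideal ⟨cO k a, cO_affine k a⟩ =
    Ideal.span {b.appLE V.1 (cO k a) (cO_le k hk a) (a : Γ(X, V.1))} ∧
    b.appLE V.1 (cO k a) (cO_le k hk a) (a : Γ(X, V.1)) ∈ nonZeroDivisors Γ(X', cO k a) := by
  refine ⟨?_, ?_⟩
  · rw [H29Blow.ideal_comap 𝓘 b V ⟨cO k a, cO_affine k a⟩ (cO_le k hk a)]
    refine Function.Injective.of_comp (f := Ideal.comap (φ k a)) (g := Ideal.map (φ k a)) ?_ ?_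
    · intro I J h
      simpa only [Function.comp_apply, Ideal.comap_map_of_bijective (φ k a) (φ_bijective k a)] using h
    refine (Ideal.map_map _ _).trans ?_
    rw [Ideal.map_span, Set.image_singleton,
      show (φ k a).comp (b.appLE V.1 (cO k a) (cO_le k hk a)).hom =
        algebraMap _ _ from RingHom.ext fun r => φ_appLE k hk a _ r, map_eq_span]
    exact congrArg (fun t => Ideal.span {t}) (φ_appLE k hk a _ _).symm
  · refine mem_nonZeroDivisors_iff_right.2 fun z hz => (φ_bijective k a).1 ?_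
    rw [map_zero]
    refine mem_nonZeroDivisors_iff_right.1 (algebraMap_mem_nonZeroDivisors (𝓘.ideal V) a) _ ?_
    rw [← φ_appLE k hk a (cO_le k hk a), ← map_mul, hz, map_zero]

end

end Groth.Agent.H11Strict.BlowProj
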