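import Groth.Agent.H26Blow.Proper
import Groth.Agent.H11Strict.BlowChartBase
import Groth.Agent.H11Proj.FamilyAmple
import Groth.Agent.H29Blow.IdealMod
import Groth.Agent.H17.GrBase.Stalk

/-! A blow-up in an ideal of finite type is projective. -/

set_option autoImplicit false
set_option linter.style.haveILetI false
set_option backward.isDefEq.respectTransparency false
universe u

open CategoryTheory CategoryTheory.Limits AlgebraicGeometry TopologicalSpace Opposite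
open Groth.Agent.H26Blow Groth.Agent.H11Tilde Groth.Agent.H11Proj
open Groth.Agent.H29Omega (idealStalk idealStalk_germ idealStalk_injective range_idealStalk)

namespace Groth.Agent.H11Strict.BlowProj

variable {X X' : Scheme.{u}} (b : X' ⟶ X) (𝓘 : X.IdealSheafData)

/-- The module of the exceptional divisor. -/
noncomputable abbrev O1 : X'.Modules := ClSub.idealMod (BlowUp.exceptional b 𝓘)

theorem exists_sect (U : X.affineOpens) (a : Γ(X, U.1)) (ha : a ∈ 𝓘.ideal U) :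
    ∃ s : Γ(O1 b 𝓘, b ⁻¹ᵁ U.1), OmegaSh.idealSect (BlowUp.exceptional b 𝓘) _ s = b.app U.1 a := by
  refine H17.GrBase.exists_idealSect_of_germ _ _ _ fun p hp => ?_
  obtain ⟨W, hW, hpW, hle⟩ := exists_isAffineOpen_mem_and_subset (U := b ⁻¹ᵁ U.1) hp
  rw [range_idealStalk (BlowUp.exceptional b 𝓘) p ⟨W, hW⟩ hpW, H29Blow.ideal_comap 𝓘 b U ⟨W, hW⟩ hle,
    ← X'.presheaf.germ_res_apply (homOfLE hle) p hpW]
  exact Ideal.mem_map_of_mem _ (Ideal.mem_map_of_mem _ ha)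

theorem isGen_of_span {E : X'.IdealSheafData} {W : X'.Opens} (hW : IsAffineOpen W) (s : Γ(ClSub.idealMod E, W))
    (hs : OmegaSh.idealSect E W s ∈ nonZeroDivisors Γ(X', W))
    (hspan : E.ideal ⟨W, hW⟩ = Ideal.span {OmegaSh.idealSect E W s}) : IsGen (ClSub.idealMod E) s := by
  intro y hy
  letI := TopCat.Presheaf.algebra_section_stalk X'.presheaf (⟨y, hy⟩ : W)
  haveI := hW.isLocalization_stalk ⟨y, hy⟩
  have hg : X'.presheaf.germ W y hy (OmegaSh.idealSect E W s) ∈ nonZeroDivisors (X'.presheaf.stalk y) :=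
    IsLocalization.map_nonZeroDivisors_le (hW.primeIdealOf ⟨y, hy⟩).asIdeal.primeCompl (X'.presheaf.stalk y)
      (Submonoid.mem_map_of_mem _ hs)
  constructor
  · intro r r' h
    have h' := congrArg (idealStalk E y) h
    simp only [map_smul, idealStalk_germ, smul_eq_mul] at h'
    exact (mul_cancel_right_mem_nonZeroDivisors hg).mp h'
  · intro m
    have hm : idealStalk E y m ∈ LinearMap.range (idealStalk E y) := ⟨m, rfl⟩
    rw [range_idealStalk E y ⟨W, hW⟩ hy, hspan, Ideal.map_span, Set.image_singleton,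
      Ideal.mem_span_singleton'] at hm
    obtain ⟨r, hr⟩ := hm
    refine ⟨r, idealStalk_injective E y ?_⟩
    simp only [map_smul, idealStalk_germ, smul_eq_mul]
    exact hr

variable {b 𝓘} (hb : BlowUp.IsBlowUp b 𝓘)

theorem frac_sum {A : Type u} [CommRing A] (I : Ideal A) (a : I) {ι : Type} [Fintype ι] (g : ι → I)
    (c : ι → A) (x : I) (hx : (x : A) = ∑ m, c m * (g m : A)) :
    frac I a x = ∑ m, algebraMap A _ (c m) * frac I a (g m) := by
  refine (mul_cancel_right_mem_nonZeroDivisors (algebraMap_mem_nonZeroDivisors I a)).mp ?_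
  rw [frac_spec, Finset.sum_mul, hx, map_sum]
  refine Finset.sum_congr rfl fun m _ => ?_
  rw [map_mul, mul_assoc, frac_spec]

theorem eq_top_of_alg {A : Type u} [CommRing A] (I : Ideal A) (a : I) {ι : Type} [Fintype ι] (g : ι → I)
    (hspan : I = Ideal.span (Set.range fun m => (g m : A))) {S : Type u} [CommRing S] (ψ : S →+* Alg I a)
    (hψ : Function.Bijective ψ) (R : Subring S) (h0 : ∀ r : A, ∃ x ∈ R, ψ x = algebraMap A _ r)
    (h1 : ∀ m, ∃ x ∈ R, ψ x * algebraMap A _ (a : A) = algebraMap A _ (g m : A)) : R = ⊤ := by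
  suffices h : ∀ w : Alg I a, w ∈ R.map ψ by
    refine eq_top_iff.2 fun x _ => ?_
    obtain ⟨x', hx', e⟩ := h (ψ x)
    exact hψ.1 e ▸ hx'
  rintro ⟨w, hw⟩
  induction hw using Algebra.adjoin_induction with
  | mem w hw =>
    obtain ⟨x, hx, rfl⟩ := hw
    obtain ⟨c, hc⟩ := Ideal.mem_span_range_iff_exists_fun.1 (hspan.le hx)
    change frac I a ⟨x, hx⟩ ∈ R.map ψ
    rw [frac_sum I a g c ⟨x, hx⟩ hc.symm]
    refine sum_mem fun m _ => mul_mem ?_ ?_
    · exact h0 (c m)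
    · obtain ⟨y, hy, e⟩ := h1 m
      exact ⟨y, hy, (mul_cancel_right_mem_nonZeroDivisors (algebraMap_mem_nonZeroDivisors I a)).mp
        (e.trans (frac_spec I a (g m)).symm)⟩
  | algebraMap r => exact h0 r
  | add x y hx hy ihx ihy => exact add_mem ihx ihy
  | mul x y hx hy ihx ihy => exact mul_mem ihx ihy

section

variable {V : X.affineOpens} (k : Proj (gr (𝓘.ideal V)) ⟶ X') [IsOpenImmersion k]
  (hk : k ≫ b = π (𝓘.ideal V) ≫ V.2.fromSpec) (a : 𝓘.ideal V)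

theorem mem_basicOpen_iff (z : Γ(X', cO k a)) (w : Spec (CommRingCat.of (Alg (𝓘.ideal V) a))) :
    (j (𝓘.ideal V) a ≫ k) w ∈ X'.basicOpen z ↔ w ∈ PrimeSpectrum.basicOpen (φ k a z) := by
  show w ∈ (j (𝓘.ideal V) a ≫ k) ⁻¹ᵁ X'.basicOpen z ↔ _
  have hD : PrimeSpectrum.basicOpen (φ k a z) = (Spec (CommRingCat.of (Alg (𝓘.ideal V) a))).basicOpen
      ((Spec (CommRingCat.of (Alg (𝓘.ideal V) a))).presheaf.map (homOfLE (fun w _ => ⟨w, rfl⟩ :
        (⊤ : (Spec (CommRingCat.of (Alg (𝓘.ideal V) a))).Opens) ≤ (j (𝓘.ideal V) a ≫ k) ⁻¹ᵁ cO k a)).op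
        ((j (𝓘.ideal V) a ≫ k).app (cO k a) z)) :=
    (basicOpen_eq_of_affine' (R := CommRingCat.of (Alg (𝓘.ideal V) a)) _).symm
  rw [Scheme.preimage_basicOpen, hD, Scheme.basicOpen_res]
  exact ⟨fun h => ⟨trivial, h⟩, fun h => h.2⟩

theorem mem_cO_of_basicOpen (a' : 𝓘.ideal V) (z : Γ(X', cO k a)) (hz : φ k a z = frac (𝓘.ideal V) a a')
    {y : X'} (hy : y ∈ X'.basicOpen z) : y ∈ cO k a' := by
  obtain ⟨w, rfl⟩ := (X'.basicOpen_le z hy : y ∈ cO k a)
  rw [mem_basicOpen_iff k a, hz, ← mem_basicOpen_j, ← opensRange_j] at hy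
  obtain ⟨w', hw'⟩ := hy
  exact ⟨w', by rw [Scheme.Hom.comp_apply, hw']; rfl⟩

theorem exists_mem_cO {ι : Type} [Fintype ι] (g : ι → 𝓘.ideal V)
    (hg : 𝓘.ideal V = Ideal.span (Set.range fun m => (g m : Γ(X, V.1)))) {y : X'} (hy : y ∈ k.opensRange) :
    ∃ m, y ∈ cO k (g m) := by
  obtain ⟨w, rfl⟩ := hy
  obtain ⟨a, ha⟩ := Opens.mem_iSup.1 ((iSup_basicOpen (𝓘.ideal V)).ge (Set.mem_univ w))
  rw [← opensRange_j] at ha
  obtain ⟨v, rfl⟩ := ha
  obtain ⟨c, hc⟩ := Ideal.mem_span_range_iff_exists_fun.1 (hg.le a.2)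
  have hone : frac (𝓘.ideal V) a a = 1 :=
    (mul_cancel_right_mem_nonZeroDivisors (algebraMap_mem_nonZeroDivisors _ a)).mp
      ((frac_spec _ a a).trans (one_mul _).symm)
  by_contra hne
  push Not at hne
  have hmem : ∀ m, frac (𝓘.ideal V) a (g m) ∈ v.asIdeal := fun m => by
    by_contra hm
    have hv : v ∈ PrimeSpectrum.basicOpen (frac (𝓘.ideal V) a (g m)) := hm
    rw [← mem_basicOpen_j, ← opensRange_j] at hv
    obtain ⟨w', hw'⟩ := hv
    exact hne m ⟨w', by rw [Scheme.Hom.comp_apply, hw']⟩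
  refine v.isPrime.ne_top ((Ideal.eq_top_iff_one _).2 ?_)
  rw [← hone, frac_sum _ a g c a hc.symm]
  exact Ideal.sum_mem _ fun m _ => Ideal.mul_mem_left _ _ (hmem m)

include hk in
theorem inf_genAt_le {U : X.affineOpens} (hVU : V.1 ≤ U.1) (a' : Γ(X, U.1))
    (ha' : X.presheaf.map (homOfLE hVU).op a' ∈ 𝓘.ideal V)
    {s : Γ(O1 b 𝓘, b ⁻¹ᵁ U.1)} (hs : OmegaSh.idealSect (BlowUp.exceptional b 𝓘) _ s = b.app U.1 a') :
    cO k a ⊓ genAt (O1 b 𝓘) s ≤ cO k ⟨_, ha'⟩ := by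
  obtain ⟨z, hz⟩ := (φ_bijective k a).2 (frac (𝓘.ideal V) a ⟨_, ha'⟩)
  rintro y ⟨hy, hyg⟩
  refine mem_cO_of_basicOpen k a ⟨_, ha'⟩ z hz ?_
  obtain ⟨hid, hnzd⟩ := ideal_cO k hk a
  letI := TopCat.Presheaf.algebra_section_stalk X'.presheaf (⟨y, hy⟩ : cO k a)
  haveI := (cO_affine k a).isLocalization_stalk ⟨y, hy⟩
  have hnzd' : X'.presheaf.germ (cO k a) y hy (b.appLE V.1 (cO k a) (cO_le k hk a) (a : Γ(X, V.1))) ∈
      nonZeroDivisors (X'.presheaf.stalk y) :=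
    IsLocalization.map_nonZeroDivisors_le ((cO_affine k a).primeIdealOf ⟨y, hy⟩).asIdeal.primeCompl
      (X'.presheaf.stalk y) (Submonoid.mem_map_of_mem _ hnzd)
  have hza : z * b.appLE V.1 (cO k a) (cO_le k hk a) (a : Γ(X, V.1)) =
      b.appLE V.1 (cO k a) (cO_le k hk a) (X.presheaf.map (homOfLE hVU).op a') := by
    refine (φ_bijective k a).1 ?_
    rw [map_mul, hz, φ_appLE k hk a, φ_appLE k hk a, frac_spec]
  have hmem : X'.presheaf.germ (cO k a) y hy (b.appLE V.1 (cO k a) (cO_le k hk a) (a : Γ(X, V.1))) ∈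
      LinearMap.range (idealStalk (BlowUp.exceptional b 𝓘) y) := by
    rw [range_idealStalk (BlowUp.exceptional b 𝓘) y ⟨cO k a, cO_affine k a⟩ hy, hid]
    exact Ideal.mem_map_of_mem _ (Ideal.mem_span_singleton_self _)
  obtain ⟨m, hm⟩ := hmem
  obtain ⟨r, rfl⟩ := ((isGen_genAt s) y hyg).2 m
  rw [TopCat.Presheaf.germ_res_apply, map_smul, idealStalk_germ, hs, smul_eq_mul] at hm
  have e : X'.presheaf.germ (b ⁻¹ᵁ U.1) y (genAt_le s hyg) (b.app U.1 a') =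
      X'.presheaf.germ (cO k a) y hy z *
        X'.presheaf.germ (cO k a) y hy (b.appLE V.1 (cO k a) (cO_le k hk a) (a : Γ(X, V.1))) := by
    rw [← map_mul, hza, ← CategoryTheory.comp_apply (X.presheaf.map _), Scheme.Hom.map_appLE]
    exact (X'.presheaf.germ_res_apply (homOfLE _) y hy _).symm
  rw [e, ← mul_assoc] at hm
  rw [Scheme.mem_basicOpen X' z y hy]
  exact IsUnit.of_mul_eq_one r ((mul_comm _ _).trans
    ((mul_cancel_right_mem_nonZeroDivisors hnzd').1 (hm.trans (one_mul _).symm)))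

include hk in
theorem cO_le_genAt {U : X.affineOpens} (hVU : V.1 ≤ U.1) (a' : Γ(X, U.1))
    (ha : (a : Γ(X, V.1)) = X.presheaf.map (homOfLE hVU).op a')
    {s : Γ(O1 b 𝓘, b ⁻¹ᵁ U.1)} (hs : OmegaSh.idealSect (BlowUp.exceptional b 𝓘) _ s = b.app U.1 a') :
    cO k a ≤ genAt (O1 b 𝓘) s := by
  obtain ⟨hid, hnzd⟩ := ideal_cO k hk a
  have hle : cO k a ≤ b ⁻¹ᵁ U.1 := (cO_le k hk a).trans (b.preimage_mono hVU)
  have e : OmegaSh.idealSect (BlowUp.exceptional b 𝓘) (cO k a) ((O1 b 𝓘).presheaf.map (homOfLE hle).op s) =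
      b.appLE V.1 (cO k a) (cO_le k hk a) (a : Γ(X, V.1)) := by
    rw [H29Blow.idealSect_res, hs, ha, ← CategoryTheory.comp_apply (X.presheaf.map _), Scheme.Hom.map_appLE]
    rfl
  refine le_genAt s hle (isGen_of_span (cO_affine k a) _ ?_ ?_)
  · exact e ▸ hnzd
  · exact hid.trans (congrArg (fun t => Ideal.span {t}) e.symm)

include hk in
theorem gensRing_eq {n : ℕ} {U : X.affineOpens} (hVU : V.1 ≤ U.1) (a' : Fin n → Γ(X, U.1))
    (ha' : ∀ m, X.presheaf.map (homOfLE hVU).op (a' m) ∈ 𝓘.ideal V)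
    (hspan : 𝓘.ideal V = Ideal.span (Set.range fun m => X.presheaf.map (homOfLE hVU).op (a' m)))
    (s : Fin n → Γ(O1 b 𝓘, b ⁻¹ᵁ U.1))
    (hs : ∀ m, OmegaSh.idealSect (BlowUp.exceptional b 𝓘) _ (s m) = b.app U.1 (a' m)) (l : Fin n)
    (hO : genAt (O1 b 𝓘) (s l) ⊓ b ⁻¹ᵁ V.1 = cO k ⟨_, ha' l⟩) :
    gensRing b (chartAt (s l)) (fun m => resS (O1 b 𝓘) (b.preimage_mono hVU) (s m)) = ⊤ := by
  obtain ⟨ψ, hψ, hψ_appLE⟩ : ∃ ψ : Γ(X', genAt (O1 b 𝓘) (s l) ⊓ b ⁻¹ᵁ V.1) →+* Alg (𝓘.ideal V) ⟨_, ha' l⟩,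
      Function.Bijective ψ ∧ ∀ r, ψ (b.appLE V.1 _ inf_le_right r) = algebraMap _ _ r := by
    revert hO
    generalize genAt (O1 b 𝓘) (s l) = G
    intro hO
    refine ⟨(φ k _).comp (X'.presheaf.map (eqToHom hO.symm).op).hom, ?_, fun r => ?_⟩
    · rw [RingHom.coe_comp]
      exact (φ_bijective k _).comp (ConcreteCategory.bijective_of_isIso (X'.presheaf.map (eqToHom hO.symm).op))
    · show φ k _ ((b.appLE V.1 _ inf_le_right ≫ X'.presheaf.map (eqToHom hO.symm).op) r) = _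
      rw [Scheme.Hom.appLE_map]
      exact φ_appLE k hk _ _ r
  have hn : ∀ m, X'.presheaf.map (homOfLE ((inf_le_right).trans (b.preimage_mono hVU) :
      genAt (O1 b 𝓘) (s l) ⊓ b ⁻¹ᵁ V.1 ≤ b ⁻¹ᵁ U.1)).op (b.app U.1 (a' m)) =
      b.appLE V.1 (genAt (O1 b 𝓘) (s l) ⊓ b ⁻¹ᵁ V.1) inf_le_right (X.presheaf.map (homOfLE hVU).op (a' m)) := fun m => by
    rw [← CategoryTheory.comp_apply (X.presheaf.map _), Scheme.Hom.map_appLE]
    rfl
  have hmul : ∀ m, (chartAt (s l)).coef (resS (O1 b 𝓘) (b.preimage_mono hVU) (s m)) *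
      b.appLE V.1 (genAt (O1 b 𝓘) (s l) ⊓ b ⁻¹ᵁ V.1) inf_le_right (X.presheaf.map (homOfLE hVU).op (a' l)) =
      b.appLE V.1 (genAt (O1 b 𝓘) (s l) ⊓ b ⁻¹ᵁ V.1) inf_le_right (X.presheaf.map (homOfLE hVU).op (a' m)) := fun m => by
    have h := congrArg (OmegaSh.idealSect (BlowUp.exceptional b 𝓘) _)
      ((chartAt (s l)).coef_spec (resS (O1 b 𝓘) (b.preimage_mono hVU) (s m)))
    simp only [resS, H29Blow.idealSect_smul, H29Blow.idealSect_res, hs, H10Coh.rres_rres] at h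
    rw [← hn, ← hn]
    exact h.symm
  exact eq_top_of_alg (𝓘.ideal V) ⟨_, ha' l⟩ (fun m => ⟨_, ha' m⟩) hspan ψ hψ _
    (fun r => ⟨_, Subring.subset_closure (Or.inl ⟨r, rfl⟩), hψ_appLE r⟩)
    (fun m => ⟨_, Subring.subset_closure (Or.inr ⟨m, rfl⟩), by
      have h2 := congrArg ψ (hmul m)
      rw [map_mul, hψ_appLE, hψ_appLE] at h2
      exact h2⟩)

end

/-- A blow-up in an ideal of finite type is projective. -/
theorem isProjective (h𝓘 : BlowUp.IsFiniteTypeIdeal 𝓘) (hb : BlowUp.IsBlowUp b 𝓘) : RelProj.IsProjective b := by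
  classical
  haveI : IsProper b := isProper_of_isBlowUp hb fun x => by
    obtain ⟨U, hU, hxU, -⟩ := exists_isAffineOpen_mem_and_subset (U := ⊤) (x := x) trivial
    exact ⟨⟨U, hU⟩, hxU, h𝓘 _⟩
  choose n a ha using fun U : X.affineOpens => Submodule.fg_iff_exists_fin_generating_family.1 (h𝓘 U)
  have ham : ∀ U m, a U m ∈ 𝓘.ideal U := fun U m => (ha U).le (Ideal.subset_span ⟨m, rfl⟩)
  choose s hs using fun (U : X.affineOpens) (m : Fin (n U)) => exists_sect b 𝓘 U (a U m) (ham U m)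
  have hres : ∀ (U V : X.affineOpens) (h : V.1 ≤ U.1),
      𝓘.ideal V = Ideal.span (Set.range fun m => X.presheaf.map (homOfLE h).op (a U m)) := fun U V h => by
    rw [← 𝓘.map_ideal (U := V) (V := U) h, ← ha U, Ideal.map_span, ← Set.range_comp]
    rfl
  let Y : Fam b (O1 b 𝓘) :=
    { ι := X.affineOpens
      O := fun U => U.1
      k := n
      g := s
      compat := fun U U' l x hx => by
        obtain ⟨V, hV, hxV, hle⟩ := exists_isAffineOpen_mem_and_subset (U := U.1 ⊓ U'.1) hx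
        have hi : V ≤ U.1 := fun _ h => (hle h).1
        have hj : V ≤ U'.1 := fun _ h => (hle h).2
        refine ⟨V, hi, hj, hxV, ?_⟩
        have hmem : X.presheaf.map (homOfLE hi).op (a U l) ∈ 𝓘.ideal ⟨V, hV⟩ :=
          (hres U ⟨V, hV⟩ hi).ge (Ideal.subset_span ⟨l, rfl⟩)
        obtain ⟨c, hc⟩ := Ideal.mem_span_range_iff_exists_fun.1 ((hres U' ⟨V, hV⟩ hj).le hmem)
        refine ⟨c, H29Blow.idealSect_injective _ _ ?_⟩
        simp only [resS, map_sum, H29Blow.idealSect_smul, H29Blow.idealSect_res, hs]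
        have hn : ∀ {W : X.Opens} (h : V ≤ W) (r : Γ(X, W)),
            X'.presheaf.map (homOfLE (b.preimage_mono h)).op (b.app W r) = b.app V (X.presheaf.map (homOfLE h).op r) :=
          fun h r => (congr($(b.naturality (homOfLE h).op) r)).symm
        rw [hn hi, ← hc, map_sum]
        refine Finset.sum_congr rfl fun m _ => ?_
        rw [map_mul, hn hj] }
  have key : ∀ (U : X.affineOpens) (V : X.affineOpens) (h : V.1 ≤ U.1),
      ∃ (k : Proj (gr (𝓘.ideal V)) ⟶ X') (_ : IsOpenImmersion k) (hk : k ≫ b = π (𝓘.ideal V) ≫ V.2.fromSpec)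
        (hm : ∀ m, X.presheaf.map (homOfLE h).op (a U m) ∈ 𝓘.ideal V),
        (∀ m, genAt (O1 b 𝓘) (s U m) ⊓ b ⁻¹ᵁ V.1 = cO k ⟨_, hm m⟩) ∧
        ∀ y ∈ b ⁻¹ᵁ V.1, ∃ m, y ∈ cO k ⟨_, hm m⟩ := fun U V h => by
    obtain ⟨k, _, hk, hr⟩ := exists_proj_chart hb V
    have hm : ∀ m, X.presheaf.map (homOfLE h).op (a U m) ∈ 𝓘.ideal V := fun m =>
      (hres U V h).ge (Ideal.subset_span ⟨m, rfl⟩)
    have hcov : ∀ y ∈ b ⁻¹ᵁ V.1, ∃ m, y ∈ cO k ⟨_, hm m⟩ := fun y hy =>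
      exists_mem_cO k (fun m => ⟨_, hm m⟩) (hres U V h) (hr.ge hy)
    refine ⟨k, inferInstance, hk, hm, fun m => le_antisymm (fun y hy => ?_)
      (le_inf (cO_le_genAt k hk _ h (a U m) rfl (hs U m)) (cO_le k hk _)), hcov⟩
    obtain ⟨m', hm'⟩ := hcov y hy.2
    exact inf_genAt_le k hk _ h (a U m) (hm m) (hs U m) ⟨hm', hy.1⟩
  have hY : Y.IsVeryAmple := by
    refine ⟨fun U x hx => ?_, fun U l V hV hle => ?_, fun U l V hV hle => ?_⟩
    · obtain ⟨k, _, hk, hm, hg, hcov⟩ := key U U le_rfl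
      obtain ⟨m, hm'⟩ := hcov x hx
      exact ⟨m, ((hg m).ge hm').1⟩
    · obtain ⟨k, _, hk, hm, hg, hcov⟩ := key U ⟨V, hV⟩ hle
      exact (hg l).symm ▸ cO_affine k _
    · obtain ⟨k, _, hk, hm, hg, hcov⟩ := key U ⟨V, hV⟩ hle
      exact gensRing_eq k hk hle (a U) hm (hres U ⟨V, hV⟩ hle) (s U) (hs U) l (hg l)
  exact hY.isProjective (H29Blow.isInvertible_of_isEffCartierIdeal _ hb.1) (iSup_affineOpens_eq_top X)

end Groth.Agent.H11Strict.BlowProj
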