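import Groth.Prelude.Def_BlowUp2
import Groth.Agent.H29Blow.Basic
import Mathlib

/-! The blow-up of a closed subscheme in the restricted centre is the strict transform: a closed
immersion into the blow-up of the ambient scheme. -/

set_option autoImplicit false
universe u

open CategoryTheory CategoryTheory.Limits AlgebraicGeometry TopologicalSpace
namespace Groth.Agent.H11Strict

variable {X : Scheme.{u}}

theorem isAffineHom_compl {E : X.IdealSheafData} (hE : BlowUp.IsEffCartierIdeal E) :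
    IsAffineHom (Scheme.Opens.ι E.support.compl) := by
  have hcover : ∀ x : X, ∃ V : X.affineOpens, x ∈ V.1 ∧ IsAffineOpen (V.1 ⊓ E.support.compl) := by
    intro x
    obtain ⟨V, hxV, f, -, hf⟩ := hE x
    refine ⟨V, hxV, ?_⟩
    have : V.1 ⊓ E.support.compl = X.basicOpen f := by
      ext y
      constructor
      · rintro ⟨hyV, hy⟩
        by_contra hc
        apply hy
        change y ∈ E.support
        rw [Scheme.IdealSheafData.mem_support_iff_of_mem (U := V) hyV, hf, Scheme.zeroLocus_span,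
          Scheme.mem_zeroLocus_iff]
        simpa using hc
      · intro hy
        exact ⟨X.basicOpen_le f hy,
          H29Blow.basicOpen_disjoint_support (hf ▸ Ideal.mem_span_singleton_self f) hy⟩
    rw [this]
    exact V.2.basicOpen f
  choose V hxV hV using hcover
  refine isAffineHom_of_forall_exists_isAffineOpen _ fun x => ⟨(V x).1, hxV x, (V x).2, ?_⟩
  rw [← Scheme.Hom.isAffineOpen_iff_of_isOpenImmersion (Scheme.Opens.ι E.support.compl),
    Scheme.Hom.image_preimage_eq_opensRange_inf, Scheme.Opens.opensRange_ι, inf_comm]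
  exact hV x

/-- A morphism avoiding `E` inverts the local equations of `E`. -/
theorem isUnit_app {W : Scheme.{u}} (g : W ⟶ X) {E : X.IdealSheafData}
    (hg : ∀ w, g w ∉ E.support) {V : X.affineOpens} {e : Γ(X, V.1)}
    (he : E.ideal V = Ideal.span {e}) : IsUnit (g.app V.1 e) := by
  refine W.toRingedSpace.isUnit_of_isUnit_germ (g ⁻¹ᵁ V.1) _ fun w hw => ?_
  have h2 : g w ∈ X.basicOpen e := by
    by_contra hc
    apply hg w
    rw [Scheme.IdealSheafData.mem_support_iff_of_mem (U := V) hw, he, Scheme.zeroLocus_span,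
      Scheme.mem_zeroLocus_iff]
    simpa using hc
  have h : w ∈ W.basicOpen (g.app V.1 e) := by rw [← Scheme.preimage_basicOpen]; exact h2
  exact (W.mem_basicOpen (g.app V.1 e) w hw).mp h

theorem mem_ker_of_mul_mem {W : Scheme.{u}} (g : W ⟶ X) [QuasiCompact g] {E : X.IdealSheafData}
    (hg : ∀ w, g w ∉ E.support) {V : X.affineOpens} {e : Γ(X, V.1)}
    (he : E.ideal V = Ideal.span {e}) {a : Γ(X, V.1)} (ha : e * a ∈ g.ker.ideal V) :
    a ∈ g.ker.ideal V := by
  rw [Scheme.Hom.ker_apply, RingHom.mem_ker] at ha ⊢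
  rw [map_mul] at ha
  exact (isUnit_app g hg he).mul_right_eq_zero.mp ha

theorem ker_ι_compl {E : X.IdealSheafData} (hE : BlowUp.IsEffCartierIdeal E) :
    (Scheme.Opens.ι E.support.compl).ker = ⊥ := by
  haveI := isAffineHom_compl hE
  refine H29Blow.ext_of_forall_exists fun x => ?_
  obtain ⟨V, hxV, e, he, hV⟩ := hE x
  refine ⟨V, hxV, ?_⟩
  rw [Scheme.IdealSheafData.ideal_bot, Pi.bot_apply, eq_bot_iff]
  intro a ha
  rw [Scheme.Hom.ker_apply, RingHom.mem_ker] at ha
  rw [Ideal.mem_bot]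
  refine H29Blow.eq_zero_of_res_basicOpen_eq_zero he ?_
  have hle : X.basicOpen e ≤
      (Scheme.Opens.ι E.support.compl) ''ᵁ ((Scheme.Opens.ι E.support.compl) ⁻¹ᵁ V.1) := by
    intro y hy
    have hy' : y ∈ E.support.compl :=
      H29Blow.basicOpen_disjoint_support (hV ▸ Ideal.mem_span_singleton_self e) hy
    exact ⟨⟨y, hy'⟩, X.basicOpen_le e hy, rfl⟩
  have h2 := (congrArg (X.presheaf.map (homOfLE hle).op).hom ha).trans (map_zero _)
  rw [Scheme.Opens.ι_app] at h2
  change (X.presheaf.map _ ≫ X.presheaf.map (homOfLE hle).op).hom a = 0 at h2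
  rw [← X.presheaf.map_comp] at h2
  exact h2

variable {X' Z Z' : Scheme.{u}} (𝓘 : X.IdealSheafData) (i : Z ⟶ X) [IsClosedImmersion i]
  (b : X' ⟶ X)

/-- The morphism whose kernel defines the strict transform of `i`. -/
noncomputable def strictHom : (((i.ker.comap b).subschemeι ⁻¹ᵁ (𝓘.comap b).support.compl :
    (i.ker.comap b).subscheme.Opens) : Scheme.{u}) ⟶ X' :=
  ((i.ker.comap b).subschemeι ∣_ (𝓘.comap b).support.compl) ≫ (Scheme.Opens.ι _)

/-- The ideal of the strict transform of the closed immersion `i`. -/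
noncomputable def strictIdeal : X'.IdealSheafData := (strictHom 𝓘 i b).ker

theorem quasiCompact_strictHom (hb : BlowUp.IsEffCartierIdeal (𝓘.comap b)) :
    QuasiCompact (strictHom 𝓘 i b) := by
  haveI := isAffineHom_compl hb
  unfold strictHom
  infer_instance

theorem strictHom_notMem (w) : strictHom 𝓘 i b w ∉ (𝓘.comap b).support :=
  (((i.ker.comap b).subschemeι ∣_ (𝓘.comap b).support.compl) w).2

theorem comap_le_strictIdeal : i.ker.comap b ≤ strictIdeal 𝓘 i b := by
  rw [strictIdeal, strictHom, morphismRestrict_ι]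
  refine le_trans ?_ (Scheme.Hom.le_ker_comp _ _)
  rw [Scheme.IdealSheafData.ker_subschemeι]

theorem mem_strictIdeal (hb : BlowUp.IsEffCartierIdeal (𝓘.comap b)) {V : X'.affineOpens}
    {e a : Γ(X', V.1)} (he : (𝓘.comap b).ideal V = Ideal.span {e})
    (ha : e * a ∈ (strictIdeal 𝓘 i b).ideal V) : a ∈ (strictIdeal 𝓘 i b).ideal V := by
  haveI := quasiCompact_strictHom 𝓘 i b hb
  exact mem_ker_of_mul_mem _ (strictHom_notMem 𝓘 i b) he ha

theorem isEff_strictIdeal (hb : BlowUp.IsEffCartierIdeal (𝓘.comap b)) :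
    BlowUp.IsEffCartierIdeal (𝓘.comap ((strictIdeal 𝓘 i b).subschemeι ≫ b)) := by
  intro z
  obtain ⟨V, hxV, e, -, he⟩ := hb ((strictIdeal 𝓘 i b).subschemeι z)
  refine ⟨⟨_, V.2.preimage (strictIdeal 𝓘 i b).subschemeι⟩, hxV,
    (strictIdeal 𝓘 i b).subschemeι.app V.1 e, ?_, ?_⟩
  · rw [mem_nonZeroDivisors_iff_right]
    intro s hs
    obtain ⟨a, rfl⟩ := (strictIdeal 𝓘 i b).subschemeι_app_surjective V s
    rw [← map_mul, ← RingHom.mem_ker, Scheme.IdealSheafData.ker_subschemeι_app, mul_comm] at hs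
    rw [← RingHom.mem_ker, Scheme.IdealSheafData.ker_subschemeι_app]
    exact mem_strictIdeal 𝓘 i b hb he hs
  · rw [Scheme.IdealSheafData.comap_comp,
      H29Blow.ideal_comap (𝓘.comap b) _ V _ le_rfl, he, Ideal.map_span, Set.image_singleton,
      Scheme.Hom.appLE_eq_app]

theorem exists_strict (hb : BlowUp.IsBlowUp b 𝓘) (b' : Z' ⟶ Z)
    (hb' : BlowUp.IsBlowUp b' (𝓘.comap i)) (k : Z' ⟶ X') (hk : k ≫ b = b' ≫ i) :
    (∃ φ : Z' ⟶ (strictIdeal 𝓘 i b).subscheme, IsIso φ ∧ φ ≫ (strictIdeal 𝓘 i b).subschemeι = k) ∧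
      (k ⁻¹ᵁ (𝓘.comap b).support.compl).ι.ker = ⊥ ∧
      IsAffineHom (k ⁻¹ᵁ (𝓘.comap b).support.compl).ι := by
  set E := 𝓘.comap b with hE
  set K := strictIdeal 𝓘 i b with hKdef
  have hEk : BlowUp.IsEffCartierIdeal (E.comap k) := by
    rw [hE, ← Scheme.IdealSheafData.comap_comp, hk, Scheme.IdealSheafData.comap_comp]
    exact hb'.1
  have hU : k ⁻¹ᵁ E.support.compl = (E.comap k).support.compl := by
    ext z
    simp [Scheme.IdealSheafData.support_comap]
  have hker : (k ⁻¹ᵁ E.support.compl).ι.ker = ⊥ := by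
    rw [hU]; exact ker_ι_compl hEk
  have hP : i.ker.comap b ≤ k.ker := by
    rw [← Scheme.IdealSheafData.le_map_iff_comap_le, Scheme.IdealSheafData.map_ker, hk]
    exact Scheme.Hom.le_ker_comp _ _
  have hP' : (i.ker.comap b).subschemeι.ker ≤ k.ker := by
    rw [Scheme.IdealSheafData.ker_subschemeι]; exact hP
  have hK : K ≤ k.ker := by
    calc K ≤ ((k ⁻¹ᵁ E.support.compl).ι ≫ k).ker := ?_
      _ = k.ker := by rw [← Scheme.IdealSheafData.map_ker, hker, Scheme.IdealSheafData.map_bot]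
    have hfac := IsClosedImmersion.lift_fac (i.ker.comap b).subschemeι k hP'
    set k' := IsClosedImmersion.lift (i.ker.comap b).subschemeι k hP'
    have h1 : (k ⁻¹ᵁ E.support.compl).ι ≫ k =
        Z'.homOfLE (show k ⁻¹ᵁ E.support.compl ≤
          k' ⁻¹ᵁ ((i.ker.comap b).subschemeι ⁻¹ᵁ E.support.compl) by
            rw [← Scheme.Hom.comp_preimage, hfac]) ≫
          (k' ∣_ ((i.ker.comap b).subschemeι ⁻¹ᵁ E.support.compl)) ≫ strictHom 𝓘 i b := by
      rw [strictHom, morphismRestrict_ι, ← Category.assoc (k' ∣_ _), morphismRestrict_ι,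
        Category.assoc, Scheme.homOfLE_ι_assoc, hfac]
    rw [h1, ← Category.assoc]
    exact Scheme.Hom.le_ker_comp _ _
  have hiK : i.ker ≤ (K.subschemeι ≫ b).ker := by
    rw [← Scheme.IdealSheafData.map_ker, Scheme.IdealSheafData.ker_subschemeι,
      Scheme.IdealSheafData.le_map_iff_comap_le]
    exact comap_le_strictIdeal 𝓘 i b
  have hKι : K.subschemeι.ker ≤ k.ker := by rw [Scheme.IdealSheafData.ker_subschemeι]; exact hK
  have hh0 := IsClosedImmersion.lift_fac i (K.subschemeι ≫ b) hiK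
  set h0 := IsClosedImmersion.lift i (K.subschemeι ≫ b) hiK
  obtain ⟨h1, hh1, -⟩ := hb'.2 _ h0 (by
    rw [← Scheme.IdealSheafData.comap_comp, hh0]
    exact isEff_strictIdeal 𝓘 i b hb.1)
  have hh1k : h1 ≫ k = K.subschemeι := by
    obtain ⟨t, -, ht⟩ := hb.2 _ (K.subschemeι ≫ b) (isEff_strictIdeal 𝓘 i b hb.1)
    rw [ht (h1 ≫ k) (by simp only [Category.assoc, hk]; rw [reassoc_of% hh1, hh0]),
      ht K.subschemeι rfl]
  have hlfac := IsClosedImmersion.lift_fac K.subschemeι k hKι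
  set φ := IsClosedImmersion.lift K.subschemeι k hKι
  refine ⟨⟨φ, ⟨h1, ?_, ?_⟩, hlfac⟩, hker, ?_⟩
  · obtain ⟨t, -, ht⟩ := hb'.2 _ b' hb'.1
    refine (ht (φ ≫ h1) ?_).trans (ht (𝟙 Z') (Category.id_comp _)).symm
    show (φ ≫ h1) ≫ b' = b'
    rw [← cancel_mono i]
    simp only [Category.assoc]
    rw [reassoc_of% hh1, hh0, reassoc_of% hlfac, hk]
  · rw [← cancel_mono K.subschemeι, Category.assoc, hlfac, hh1k, Category.id_comp]
  · rw [hU]; exact isAffineHom_compl hEk

theorem isClosedImmersion_of_isBlowUp (hb : BlowUp.IsBlowUp b 𝓘) (b' : Z' ⟶ Z)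
    (hb' : BlowUp.IsBlowUp b' (𝓘.comap i)) (k : Z' ⟶ X') (hk : k ≫ b = b' ≫ i) :
    IsClosedImmersion k ∧ Set.range k ⊆ (strictIdeal 𝓘 i b).support := by
  obtain ⟨⟨φ, hφ, hfac⟩, -⟩ := exists_strict 𝓘 i b hb b' hb' k hk
  refine ⟨hfac ▸ inferInstance, ?_⟩
  rintro _ ⟨z, rfl⟩
  rw [← Scheme.IdealSheafData.range_subschemeι]
  exact ⟨φ z, by rw [← Scheme.Hom.comp_apply, hfac]⟩

theorem strictIdeal_inter_eq_empty {n : ℕ} (Z : Fin n → Scheme.{u}) (i : ∀ j, Z j ⟶ X)
    [∀ j, IsClosedImmersion (i j)] (hb : BlowUp.IsEffCartierIdeal (𝓘.comap b))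
    (h𝓘 : 𝓘 = ⨆ j, (i j).ker) :
    (⋂ j, ((strictIdeal 𝓘 (i j) b).support : Set X')) = ∅ := by
  refine Set.eq_empty_iff_forall_notMem.mpr fun x hx => ?_
  obtain ⟨V, hxV, e, he, hV⟩ := hb x
  let p : Ideal Γ(X', V.1) :=
    (IsLocalRing.maximalIdeal (X'.presheaf.stalk x)).comap (X'.presheaf.germ V.1 x hxV).hom
  have hE : 𝓘.comap b = ⨆ j, (i j).ker.comap b := by
    rw [h𝓘]; exact (Scheme.IdealSheafData.map_gc b).l_iSup
  have hle : ∀ j, ((i j).ker.comap b).ideal V ≤ Ideal.span {e} * p := by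
    intro j c hc
    have hc' : c ∈ (𝓘.comap b).ideal V := by
      rw [hE, Scheme.IdealSheafData.ideal_iSup, iSup_apply]
      exact (le_iSup (fun l => ((i l).ker.comap b).ideal V) j) hc
    obtain ⟨a, rfl⟩ := Ideal.mem_span_singleton'.mp (hV ▸ hc' : c ∈ Ideal.span {e})
    rw [mul_comm a e]
    refine Ideal.mul_mem_mul (Ideal.mem_span_singleton_self e) ?_
    have ha : a ∈ (strictIdeal 𝓘 (i j) b).ideal V := by
      refine mem_strictIdeal 𝓘 (i j) b hb hV ?_
      rw [mul_comm]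
      exact comap_le_strictIdeal 𝓘 (i j) b V hc
    have hxj := Set.mem_iInter.mp hx j
    rw [SetLike.mem_coe, Scheme.IdealSheafData.mem_support_iff_of_mem (U := V) hxV,
      Scheme.mem_zeroLocus_iff] at hxj
    have := hxj a ha
    rw [Scheme.mem_basicOpen X' a x hxV] at this
    exact this
  have hmem : e ∈ Ideal.span {e} * p := by
    have h1 : e ∈ (𝓘.comap b).ideal V := hV ▸ Ideal.mem_span_singleton_self e
    rw [hE, Scheme.IdealSheafData.ideal_iSup, iSup_apply] at h1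
    exact (iSup_le hle) h1
  obtain ⟨q, hq, hqe⟩ := Ideal.mem_span_singleton_mul.mp hmem
  have hq1 : q = 1 := by
    have h0 : (q - 1) * e = 0 := by rw [sub_mul, one_mul, mul_comm, hqe, sub_self]
    exact sub_eq_zero.mp ((mem_nonZeroDivisors_iff.mp he).2 _ h0)
  exact (Ideal.IsPrime.ne_top inferInstance) ((Ideal.eq_top_iff_one p).mpr (hq1 ▸ hq))

end Groth.Agent.H11Strict
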