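import Groth.Prelude.Def_BlowUp2
import Groth.Agent.H26Blow.Affine
import Groth.Agent.H06RegVal.Basic
import Groth.Agent.H11Strict.Residual
import Mathlib

/-! The pullback of a divisor to the blow-up of the closed point of a regular local ring. -/

set_option autoImplicit false
set_option linter.style.haveILetI false
universe u

open CategoryTheory CategoryTheory.Limits AlgebraicGeometry TopologicalSpace IsLocalRing
open Groth.Agent.H26Blow

namespace Groth.Agent.H11Strict

variable {A : Type u} [CommRing A] (I : Ideal A) (a : I)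

/-- Elements of the chart are fractions `g / a ^ n` with `g ∈ I ^ n`. -/
theorem exists_num (z : Alg I a) : ∃ (n : ℕ) (g : A), g ∈ I ^ n ∧
    z * algebraMap A (Alg I a) ((a : A) ^ n) = algebraMap A (Alg I a) g := by
  obtain ⟨z, hz⟩ := z
  induction hz using Algebra.adjoin_induction with
  | mem z hz =>
    obtain ⟨x, hx, rfl⟩ := hz
    refine ⟨1, x, by rwa [pow_one], ?_⟩
    rw [pow_one]
    exact Subtype.ext (IsLocalization.mk'_spec _ x _)
  | algebraMap r => exact ⟨0, r, by simp, by rw [pow_zero, map_one, mul_one]; rfl⟩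
  | add x y hx hy ihx ihy =>
    obtain ⟨n, g, hg, h1⟩ := ihx
    obtain ⟨m, k, hk, h2⟩ := ihy
    refine ⟨n + m, g * (a : A) ^ m + k * (a : A) ^ n, add_mem ?_ ?_, ?_⟩
    · rw [pow_add]; exact Ideal.mul_mem_mul hg (Ideal.pow_mem_pow a.2 m)
    · rw [pow_add, mul_comm k]; exact Ideal.mul_mem_mul (Ideal.pow_mem_pow a.2 n) hk
    · rw [show (⟨x + y, add_mem hx hy⟩ : Alg I a) = ⟨x, hx⟩ + ⟨y, hy⟩ from rfl, map_add, map_mul, map_mul,
        ← h1, ← h2, pow_add, map_mul]
      ring
  | mul x y hx hy ihx ihy =>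
    obtain ⟨n, g, hg, h1⟩ := ihx
    obtain ⟨m, k, hk, h2⟩ := ihy
    refine ⟨n + m, g * k, pow_add I n m ▸ Ideal.mul_mem_mul hg hk, ?_⟩
    rw [show (⟨x * y, mul_mem hx hy⟩ : Alg I a) = ⟨x, hx⟩ * ⟨y, hy⟩ from rfl, map_mul, ← h1, ← h2,
      pow_add, map_mul]
    ring

/-- The strict transform of `f` in the chart of a parameter is not in the radical of the exceptional
ideal. -/
theorem exists_strict_notMem {A : Type u} [CommRing A] [IsDomain A] [IsRegularLocalRing A] {d : ℕ}
    (x : Fin d → A) (hx : Ideal.span (Set.range x) = maximalIdeal A) (hqr : CAlgX.IsQuasiRegular x)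
    (i : Fin d) (a : maximalIdeal A) (ha : (a : A) = x i) {f : A} {μ : ℕ} (hf : H06RegVal.HasOrd A f μ) :
    ∃ t : Alg (maximalIdeal A) a,
      algebraMap A _ f = t * algebraMap A _ (a : A) ^ μ ∧
      t ∉ (Ideal.span {algebraMap A (Alg (maximalIdeal A) a) (a : A)}).radical := by
  have hfmem : algebraMap A (Alg (maximalIdeal A) a) f ∈
      Ideal.span {algebraMap A (Alg (maximalIdeal A) a) (a : A) ^ μ} := by
    rw [← Ideal.span_singleton_pow, ← map_eq_span, ← Ideal.map_pow]
    exact Ideal.mem_map_of_mem _ hf.1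
  obtain ⟨t, ht⟩ := Ideal.mem_span_singleton'.mp hfmem
  refine ⟨t, ht.symm, ?_⟩
  rintro ⟨N, hN⟩
  obtain ⟨s, hs⟩ := Ideal.mem_span_singleton'.mp hN
  obtain ⟨n, g, hg, hsg⟩ := exists_num _ a s
  have ha0 : (a : A) ≠ 0 := ha ▸ (H06RegVal.hasOrd_var x hx hqr i).ne_zero
  have hinj : Function.Injective (algebraMap A (Alg (maximalIdeal A) a)) := fun p q h =>
    IsLocalization.injective (Localization.Away (a : A))
      (Submonoid.powers_le.2 (mem_nonZeroDivisors_of_ne_zero ha0)) (congrArg Subtype.val h)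
  have heq : f ^ N * (a : A) ^ n = (a : A) ^ (μ * N + 1) * g := by
    apply hinj
    rw [map_mul, map_mul, map_pow, map_pow _ (a : A) (μ * N + 1), ← hsg, ← ht, mul_pow, ← pow_mul, ← hs,
      pow_succ]
    ring
  have hpow : ∀ N : ℕ, H06RegVal.HasOrd A (f ^ N) (μ * N) := fun N => by
    induction N with
    | zero => rw [pow_zero, mul_zero]; exact H06RegVal.hasOrd_one
    | succ N ih => rw [pow_succ, Nat.mul_succ]; exact H06RegVal.hasOrd_mul x hx hqr ih hf
  have h1 := H06RegVal.hasOrd_mul x hx hqr (hpow N) (ha ▸ H06RegVal.hasOrd_var_pow x hx hqr i n)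
  refine h1.2 ?_
  rw [heq, show μ * N + n + 1 = (μ * N + 1) + n by omega, pow_add]
  exact Ideal.mul_mem_mul (Ideal.pow_mem_pow a.2 _) hg

theorem ideal_centre_comap' {A : Type u} [CommRing A] (I : Ideal A) {R : Type u} [CommRing R] [Algebra A R] :
    ((centre I).comap (Spec.map (CommRingCat.ofHom (algebraMap A R)))).ideal ⟨⊤, isAffineOpen_top _⟩ =
      (I.map (algebraMap A R)).map (Scheme.ΓSpecIso (CommRingCat.of R)).inv.hom :=
  ideal_centre_comap I (CommRingCat.ofHom (algebraMap A R))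

theorem isEffCartierIdeal_centre_span {A : Type u} [CommRing A] {f : A} (hf : f ∈ nonZeroDivisors A) :
    BlowUp.IsEffCartierIdeal (centre (Ideal.span {f})) := by
  intro x
  refine ⟨⟨⊤, isAffineOpen_top _⟩, trivial, (Scheme.ΓSpecIso (CommRingCat.of A)).inv.hom f, ?_, ?_⟩
  · refine mem_nonZeroDivisors_iff_right.2 fun z hz => ?_
    obtain ⟨w, rfl⟩ := (ConcreteCategory.bijective_of_isIso (Scheme.ΓSpecIso (CommRingCat.of A)).inv).2 z
    have h : w * f = 0 := by
      apply (ConcreteCategory.bijective_of_isIso (Scheme.ΓSpecIso (CommRingCat.of A)).inv).1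
      rw [map_mul, map_zero]; exact hz
    rw [mem_nonZeroDivisors_iff_right.1 hf w h]
    exact map_zero _
  · rw [ideal_centre_top, Ideal.map_span, Set.image_singleton]

theorem comap_pow {X Y : Scheme.{u}} (J : Y.IdealSheafData) (g : X ⟶ Y) :
    ∀ n : ℕ, (J ^ n).comap g = J.comap g ^ n
  | 0 => by rw [pow_zero, pow_zero]; exact Scheme.IdealSheafData.comap_top g
  | n + 1 => by rw [pow_succ, pow_succ, H29Blow.comap_mul, comap_pow J g n]

theorem isEffCartierIdeal_pow {X : Scheme.{u}} {E : X.IdealSheafData} (hE : BlowUp.IsEffCartierIdeal E) :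
    ∀ n : ℕ, BlowUp.IsEffCartierIdeal (E ^ n)
  | 0 => by rw [pow_zero]; exact H29Blow.isEffCartierIdeal_top
  | n + 1 => by rw [pow_succ]; exact H29Blow.isEffCartierIdeal_mul (isEffCartierIdeal_pow hE n) hE

theorem le_of_pow_mul_le {X : Scheme.{u}} {E K : X.IdealSheafData} (hE : BlowUp.IsEffCartierIdeal E)
    (μ : ℕ) (h : E ^ μ * K ≤ E ^ (μ + 1)) : K ≤ E := by
  choose V hxV hf using fun x => H29Blow.exists_gen hE (x := x) (W := ⊤) trivial
  have hle : K ⊔ E = E := by
    refine H29Blow.ext_of_forall_exists fun x => ⟨V x, hxV x, ?_⟩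
    obtain ⟨-, e, he, heV⟩ := hf x
    rw [Scheme.IdealSheafData.ideal_sup, Pi.sup_apply, sup_eq_right]
    intro k hk
    have h1 := h (V x)
    rw [Scheme.IdealSheafData.ideal_mul, Pi.mul_apply, Scheme.IdealSheafData.ideal_pow, Pi.pow_apply,
      Scheme.IdealSheafData.ideal_pow, Pi.pow_apply, heV, Ideal.span_singleton_pow,
      Ideal.span_singleton_pow] at h1
    obtain ⟨c, hc⟩ := Ideal.mem_span_singleton'.mp (h1 (Ideal.mul_mem_mul (Ideal.mem_span_singleton_self _) hk))
    rw [heV, Ideal.mem_span_singleton']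
    refine ⟨c, (mul_cancel_left_mem_nonZeroDivisors (pow_mem he μ)).1 ?_⟩
    rw [← hc]; ring
  exact hle ▸ le_sup_left

theorem pullback_divisor {A : Type u} [CommRing A] [IsRegularLocalRing A] (hA : ringKrullDim A = 2)
    {X : Scheme.{u}} (b : X ⟶ Spec (CommRingCat.of A))
    (hb : BlowUp.IsBlowUp b (centre (maximalIdeal A)))
    (f : A) (μ : ℕ) (hf : f ∈ maximalIdeal A ^ μ) (hf' : f ∉ maximalIdeal A ^ (μ + 1)) :
    (centre (Ideal.span {f})).comap b ≤ (centre (maximalIdeal A)).comap b ^ μ ∧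
      ¬ (centre (Ideal.span {f})).comap b ≤ (centre (maximalIdeal A)).comap b ^ (μ + 1) ∧
      ∃ I' : X.IdealSheafData, BlowUp.IsEffCartierIdeal I' ∧
        (centre (Ideal.span {f})).comap b = I' * (centre (maximalIdeal A)).comap b ^ μ ∧
        ¬ (((centre (maximalIdeal A)).comap b).support : Set X) ⊆ (I'.support : Set X) := by
  haveI := H4Depth.isDomain_of_isRegularLocalRing A
  have hord : H06RegVal.HasOrd A f μ := ⟨hf, hf'⟩
  set E := (centre (maximalIdeal A)).comap b with hE
  set J := (centre (Ideal.span {f})).comap b with hJ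
  have hJE : J ≤ E ^ μ := by
    rw [hE, ← comap_pow]
    refine Scheme.IdealSheafData.comap_mono (f := b) (Scheme.IdealSheafData.le_of_isAffine ?_)
    rw [ideal_centre_top, Scheme.IdealSheafData.ideal_pow, Pi.pow_apply, ideal_centre_top, ← Ideal.map_pow]
    exact Ideal.map_mono ((Ideal.span_singleton_le_iff_mem _).mpr hf)
  have hJc : BlowUp.IsEffCartierIdeal J :=
    H29Blow.isEffCartierIdeal_comap_blowUp hb
      (isEffCartierIdeal_centre_span (mem_nonZeroDivisors_of_ne_zero hord.ne_zero))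
  have hEc : BlowUp.IsEffCartierIdeal E := hb.1
  obtain ⟨K, hK⟩ := exists_eq_mul (isEffCartierIdeal_pow hEc μ) hJE
  -- a chart of a parameter
  obtain ⟨d, x, hd, hx⟩ := H4Depth.exists_regular_system_of_parameters A
  have hqr := H06QR.Regular.isQuasiRegular_of_isWeaklyRegular x
    (H4Depth.isRegular_ofFn_of_span_eq d hd x hx).toIsWeaklyRegular
  have hd2 : d = 2 := by rw [hA] at hd; exact_mod_cast hd.symm
  let i : Fin d := ⟨0, by omega⟩
  let a : maximalIdeal A := ⟨x i, hx ▸ Ideal.subset_span ⟨i, rfl⟩⟩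
  obtain ⟨t, ht, htr⟩ := exists_strict_notMem x hx hqr i a rfl hord
  obtain ⟨h, hh, -⟩ := hb.2 _ (π (maximalIdeal A)) (isEff_π _)
  let c : Spec (CommRingCat.of (Alg (maximalIdeal A) a)) ⟶ X := j (maximalIdeal A) a ≫ h
  have hc : c ≫ b = Spec.map (CommRingCat.ofHom (algebraMap A (Alg (maximalIdeal A) a))) := by
    rw [Category.assoc, hh, j_π]
  set ψ := (Scheme.ΓSpecIso (CommRingCat.of (Alg (maximalIdeal A) a))).inv.hom
  have hEtop : (E.comap c).ideal ⟨⊤, isAffineOpen_top _⟩ = (Ideal.span {algebraMap A (Alg (maximalIdeal A) a) (a : A)}).map ψ := by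
    rw [hE, ← Scheme.IdealSheafData.comap_comp, hc, ideal_centre_comap', map_eq_span]
  have hJtop : (J.comap c).ideal ⟨⊤, isAffineOpen_top _⟩ = (Ideal.span {algebraMap A (Alg (maximalIdeal A) a) f}).map ψ := by
    rw [hJ, ← Scheme.IdealSheafData.comap_comp, hc, ideal_centre_comap', Ideal.map_span, Set.image_singleton]
  have hψ : Function.Bijective ψ :=
    ConcreteCategory.bijective_of_isIso (Scheme.ΓSpecIso (CommRingCat.of (Alg (maximalIdeal A) a))).inv
  have hKtop : ψ t ∈ (K.comap c).ideal ⟨⊤, isAffineOpen_top _⟩ := by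
    have h1 : ψ (algebraMap A (Alg (maximalIdeal A) a) f) ∈ (J.comap c).ideal ⟨⊤, isAffineOpen_top _⟩ := by
      rw [hJtop]; exact Ideal.mem_map_of_mem _ (Ideal.mem_span_singleton_self _)
    rw [← hK, H29Blow.comap_mul, comap_pow, Scheme.IdealSheafData.ideal_mul, Pi.mul_apply,
      Scheme.IdealSheafData.ideal_pow, Pi.pow_apply, hEtop, Ideal.map_span, Set.image_singleton,
      Ideal.span_singleton_pow] at h1
    obtain ⟨q, hq, hqe⟩ := Ideal.mem_span_singleton_mul.mp h1
    obtain ⟨r, rfl⟩ := hψ.2 q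
    have h2 : r = t := by
      rw [← map_pow, ← map_mul, ht, mul_comm t] at hqe
      exact (mul_cancel_left_mem_nonZeroDivisors
        (pow_mem (algebraMap_mem_nonZeroDivisors (maximalIdeal A) a) μ)).1 (hψ.1 hqe)
    exact h2 ▸ hq
  have hsupp : ¬ (E.support : Set X) ⊆ (K.support : Set X) := by
    intro hsub
    obtain ⟨q, hq, htq⟩ : ∃ q : Ideal (Alg (maximalIdeal A) a), (Ideal.span {algebraMap A (Alg (maximalIdeal A) a) (a : A)} ≤ q ∧ q.IsPrime) ∧ t ∉ q := by
      rw [Ideal.radical_eq_sInf, Submodule.mem_sInf] at htr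
      push Not at htr
      exact htr
    let z : Spec (CommRingCat.of (Alg (maximalIdeal A) a)) := ⟨q, hq.2⟩
    have hzE : z ∈ (E.comap c).support := by
      rw [Scheme.IdealSheafData.mem_support_iff_of_mem (U := ⟨⊤, isAffineOpen_top _⟩) trivial,
        Scheme.mem_zeroLocus_iff, hEtop]
      intro g hg hzg
      obtain ⟨w, hw, rfl⟩ := (Ideal.mem_map_iff_of_surjective _ hψ.2).mp hg
      rw [basicOpen_eq_of_affine'] at hzg
      exact hzg (show (Scheme.ΓSpecIso (CommRingCat.of (Alg (maximalIdeal A) a))).hom (ψ w) ∈ q by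
        rw [show (Scheme.ΓSpecIso (CommRingCat.of (Alg (maximalIdeal A) a))).hom (ψ w) = w from
          (Scheme.ΓSpecIso (CommRingCat.of (Alg (maximalIdeal A) a))).inv_hom_id_apply w]
        exact hq.1 hw)
    have hzK : z ∈ (K.comap c).support := by
      rw [Scheme.IdealSheafData.support_comap] at hzE ⊢
      exact hsub hzE
    rw [Scheme.IdealSheafData.mem_support_iff_of_mem (U := ⟨⊤, isAffineOpen_top _⟩) trivial,
      Scheme.mem_zeroLocus_iff] at hzK
    refine hzK _ hKtop ?_
    rw [basicOpen_eq_of_affine']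
    intro hmem
    rw [show (Scheme.ΓSpecIso (CommRingCat.of (Alg (maximalIdeal A) a))).hom (ψ t) = t from
      (Scheme.ΓSpecIso (CommRingCat.of (Alg (maximalIdeal A) a))).inv_hom_id_apply t] at hmem
    exact htq hmem
  refine ⟨hJE, fun hle => hsupp ?_, K,
    H29Blow.isEffCartierIdeal_right_of_mul (hK.symm ▸ hJc : BlowUp.IsEffCartierIdeal (E ^ μ * K)),
    by rw [← hK, mul_comm], hsupp⟩
  refine Scheme.IdealSheafData.support_antitone (show K ≤ E from ?_)
  refine le_of_pow_mul_le hEc μ ?_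
  rw [hK]; exact hle

end Groth.Agent.H11Strict
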