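import Groth.Prelude.Def_BlowUp2
import Groth.Agent.H26Blow.Exists
import Groth.Agent.H11Strict.FreeExt
import Groth.Agent.H11Strict.BlowLocal
import Groth.Agent.H29Blow.Basic
import Mathlib

/-! A finite birational morphism is a blow-up. -/

set_option autoImplicit false
set_option linter.style.haveILetI false
universe u

open CategoryTheory CategoryTheory.Limits AlgebraicGeometry TopologicalSpace

namespace Groth.Agent.H11Strict

variable {X Y : Scheme.{u}}

theorem comap_fromSpec_eq_centre (I : Y.IdealSheafData) {U : Y.Opens} (hU : IsAffineOpen U) :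
    I.comap hU.fromSpec = H26Blow.centre (A := Γ(Y, U)) (I.ideal ⟨U, hU⟩) := by
  refine Scheme.IdealSheafData.ext_of_isAffine ?_
  rw [H26Blow.ideal_centre_top,
    H29Blow.ideal_comap I hU.fromSpec ⟨U, hU⟩ ⟨⊤, isAffineOpen_top _⟩ (by
      intro z _; show hU.fromSpec z ∈ (U : Set Y)
      rw [← hU.range_fromSpec]; exact Set.mem_range_self z)]
  congr 1
  congr 1
  simp [Scheme.Hom.appLE, IsAffineOpen.fromSpec_app_self, ← Functor.map_comp]
  rfl

/-- An affine morphism is a blow-up over an affine open if its ring map is of free-extension type. -/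
theorem isBlowUp_morphismRestrict (f : X ⟶ Y) [IsAffineHom f] (I : Y.IdealSheafData) {U : Y.Opens}
    (hU : IsAffineOpen U) (hinj : Function.Injective (f.app U).hom)
    (hIB : (Ideal.map (f.app U).hom (I.ideal ⟨U, hU⟩) : Set Γ(X, f ⁻¹ᵁ U)) ⊆
      (f.app U).hom '' (I.ideal ⟨U, hU⟩ : Set Γ(Y, U)))
    (e : Γ(X, f ⁻¹ᵁ U)) (he : e ∈ nonZeroDivisors Γ(X, f ⁻¹ᵁ U))
    (hgen : Ideal.map (f.app U).hom (I.ideal ⟨U, hU⟩) = Ideal.span {e}) :
    BlowUp.IsBlowUp (f ∣_ U) (I.comap U.ι) := by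
  letI := (f.app U).hom.toAlgebra
  have h1 : BlowUp.IsBlowUp (Spec.map (f.app U)) (H26Blow.centre (A := Γ(Y, U)) (I.ideal ⟨U, hU⟩)) :=
    isBlowUp_Spec (I.ideal ⟨U, hU⟩) Γ(X, f ⁻¹ᵁ U) hinj hIB e he hgen
  rw [← comap_fromSpec_eq_centre I hU] at h1
  have h2 := H26Blow.isBlowUp_comp_iso h1 hU.isoSpec
  rw [← Scheme.IdealSheafData.comap_comp, IsAffineOpen.isoSpec_hom_fromSpec] at h2
  let hV : IsAffineOpen (f ⁻¹ᵁ U) := hU.preimage f
  have h3 : f ∣_ U = hV.isoSpec.hom ≫ Spec.map (f.app U) ≫ hU.isoSpec.inv := by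
    rw [← cancel_mono U.ι, morphismRestrict_ι, Category.assoc, Category.assoc, IsAffineOpen.isoSpec_inv_ι]
    have h := IsAffineOpen.SpecMap_appLE_fromSpec f hU hV le_rfl
    rw [Scheme.Hom.appLE_eq_app] at h
    rw [h, ← Category.assoc, IsAffineOpen.isoSpec_hom_fromSpec]
  rw [h3]
  refine isBlowUp_iso_comp h2 hV.isoSpec ?_
  rw [Scheme.IdealSheafData.comap_comp]
  exact H29Blow.isEffCartierIdeal_comap_of_flat h2.1 _

theorem bijective_app_of_le (f : X ⟶ Y) {W D : Y.Opens} [IsIso (f ∣_ W)] (h : D ≤ W) :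
    Function.Bijective (f.app D).hom := by
  have hD : W.ι ''ᵁ (W.ι ⁻¹ᵁ D) = D := by
    rw [Scheme.Hom.image_preimage_eq_opensRange_inf, Scheme.Opens.opensRange_ι, inf_eq_right.mpr h]
  have : IsIso ((f ∣_ W).app (W.ι ⁻¹ᵁ D)) := inferInstance
  have h1 := ConcreteCategory.bijective_of_isIso ((f ∣_ W).app (W.ι ⁻¹ᵁ D))
  rw [morphismRestrict_app] at h1
  have h3 : Function.Bijective (X.presheaf.map (eqToHom (image_morphismRestrict_preimage f W (W.ι ⁻¹ᵁ D))).op).hom :=
    ConcreteCategory.bijective_of_isIso _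
  have h2 : Function.Bijective (f.app (W.ι ''ᵁ (W.ι ⁻¹ᵁ D))).hom := (Function.Bijective.of_comp_iff' h3 _).mp h1
  rw [hD] at h2
  exact h2

theorem exists_pow_mul_mem_range (f : X ⟶ Y) [IsFinite f] {U : Y.Opens} (hU : IsAffineOpen U)
    (e : Γ(Y, U)) (he : (f.app U).hom e ∈ nonZeroDivisors Γ(X, f ⁻¹ᵁ U))
    (hbij : Function.Bijective (f.app (Y.basicOpen e)).hom) :
    ∃ n : ℕ, ∀ b : Γ(X, f ⁻¹ᵁ U), ∃ a, (f.app U).hom a = (f.app U).hom e ^ n * b := by
  classical
  letI := (f.app U).hom.toAlgebra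
  haveI : Module.Finite Γ(Y, U) Γ(X, f ⁻¹ᵁ U) := f.finite_app U hU
  haveI := hU.isLocalization_basicOpen e
  have hV : IsAffineOpen (f ⁻¹ᵁ U) := hU.preimage f
  have hone : ∀ b : Γ(X, f ⁻¹ᵁ U), ∃ (n : ℕ) (a : Γ(Y, U)), (f.app U).hom a = (f.app U).hom e ^ n * b := by
    intro b
    have hle : f ⁻¹ᵁ Y.basicOpen e ≤ f ⁻¹ᵁ U := fun z hz => Y.basicOpen_le e hz
    obtain ⟨c, hc⟩ := hbij.2 (X.presheaf.map (homOfLE hle).op b)
    obtain ⟨⟨a, _, k, rfl⟩, hak⟩ := IsLocalization.surj (Submonoid.powers e) c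
    refine ⟨k, a, ?_⟩
    have hnat : ∀ r, (f.app (Y.basicOpen e)).hom (algebraMap Γ(Y, U) Γ(Y, Y.basicOpen e) r) =
        X.presheaf.map (homOfLE hle).op ((f.app U).hom r) := fun r => by
      have := f.naturality (homOfLE (Y.basicOpen_le e)).op
      exact congr($this r)
    have h1 := congrArg (f.app (Y.basicOpen e)).hom hak
    rw [map_mul, hc, hnat, hnat, ← map_mul] at h1
    have hbo : f ⁻¹ᵁ Y.basicOpen e = X.basicOpen ((f.app U).hom e) := Scheme.preimage_basicOpen f e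
    have h2 := congrArg (X.presheaf.map (eqToHom hbo.symm).op) h1
    rw [← ConcreteCategory.comp_apply, ← ConcreteCategory.comp_apply, ← Functor.map_comp] at h2
    refine sub_eq_zero.mp (H29Blow.eq_zero_of_res_basicOpen_eq_zero (U := ⟨_, hV⟩) he ?_)
    rw [map_sub, sub_eq_zero]
    rw [mul_comm b, map_pow] at h2
    exact h2.symm
  choose n a ha using hone
  obtain ⟨G, hG⟩ := (Module.finite_def.mp (inferInstance : Module.Finite Γ(Y, U) Γ(X, f ⁻¹ᵁ U)))
  refine ⟨G.sup n, fun b => ?_⟩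
  have hb : b ∈ Submodule.span Γ(Y, U) (G : Set Γ(X, f ⁻¹ᵁ U)) := hG ▸ Submodule.mem_top
  induction hb using Submodule.span_induction with
  | mem b hb =>
    refine ⟨e ^ (G.sup n - n b) * a b, ?_⟩
    rw [map_mul, map_pow, ha, ← mul_assoc, ← pow_add, Nat.sub_add_cancel (Finset.le_sup hb)]
  | zero => exact ⟨0, by simp⟩
  | add b c _ _ hb hc =>
    obtain ⟨x, hx⟩ := hb
    obtain ⟨y, hy⟩ := hc
    exact ⟨x + y, by rw [map_add, hx, hy, mul_add]⟩
  | smul r b _ hb =>
    obtain ⟨x, hx⟩ := hb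
    refine ⟨r * x, ?_⟩
    rw [map_mul, hx, Algebra.smul_def]
    show (f.app U).hom r * _ = _ * ((f.app U).hom r * b)
    ring

theorem support_pow {X : Scheme.{u}} (L : X.IdealSheafData) :
    ∀ n : ℕ, (L ^ (n + 1)).support = L.support
  | 0 => by rw [pow_one]
  | n + 1 => by rw [pow_succ, Scheme.IdealSheafData.support_mul, support_pow L n, sup_idem]

theorem exists_blowUp_of_finite_birational [CompactSpace Y] [IsReduced X] (f : X ⟶ Y) [IsFinite f]
    (L : Y.IdealSheafData) (hL : BlowUp.IsEffCartierIdeal L)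
    (hiso : IsIso (f ∣_ L.support.compl))
    (hdense : Dense (f.base ⁻¹' ((L.support : Set Y)ᶜ))) :
    ∃ I : Y.IdealSheafData, I.support = L.support ∧ BlowUp.IsBlowUp f I := by
  classical
  choose U hxU e he hUe using fun y => hL y
  obtain ⟨s, hs⟩ := isCompact_univ.elim_finite_subcover (fun y => ((U y).1 : Set Y)) (fun y => (U y).1.2)
    fun y _ => Set.mem_iUnion.mpr ⟨y, hxU y⟩
  have hD : ∀ y, Y.basicOpen (e y) ≤ L.support.compl := fun y z hz =>
    H29Blow.basicOpen_disjoint_support (hUe y ▸ Ideal.mem_span_singleton_self (e y)) hz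
  have hbij : ∀ y, Function.Bijective (f.app (Y.basicOpen (e y))).hom := fun y =>
    bijective_app_of_le f (hD y)
  have hnzd : ∀ y, (f.app (U y).1).hom (e y) ∈ nonZeroDivisors Γ(X, f ⁻¹ᵁ (U y).1) := by
    intro y
    rw [mem_nonZeroDivisors_iff_right]
    intro z hz
    rw [← basicOpen_eq_bot_iff]
    by_contra hne
    obtain ⟨x, hx, hxd⟩ := hdense.inter_open_nonempty (X.basicOpen z) (X.basicOpen z).isOpen
      (Set.nonempty_iff_ne_empty.mpr fun h => hne (Opens.ext h))
    have hxU' : f x ∈ (U y).1 := X.basicOpen_le z hx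
    have hxe : f x ∈ Y.basicOpen (e y) := by
      by_contra hc
      apply hxd
      show f x ∈ L.support
      rw [Scheme.IdealSheafData.mem_support_iff_of_mem (U := U y) hxU', hUe, Scheme.zeroLocus_span,
        Scheme.mem_zeroLocus_iff]
      simpa using hc
    have h3 : x ∈ X.basicOpen (z * (f.app (U y).1).hom (e y)) := by
      rw [Scheme.basicOpen_mul, ← Scheme.preimage_basicOpen]
      exact ⟨hx, hxe⟩
    rw [hz, Scheme.basicOpen_zero] at h3
    exact h3
  have hinj : ∀ y, Function.Injective (f.app (U y).1).hom := by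
    intro y
    rw [injective_iff_map_eq_zero]
    intro a ha
    refine H29Blow.eq_zero_of_res_basicOpen_eq_zero (he y) ((injective_iff_map_eq_zero _).mp (hbij y).1 _ ?_)
    have := f.naturality (homOfLE (Y.basicOpen_le (e y))).op
    refine (congr($this a)).trans ?_
    show X.presheaf.map _ ((f.app (U y).1).hom a) = 0
    rw [ha, map_zero]
  choose n hn using fun y => exists_pow_mul_mem_range f (U y).2 (e y) (hnzd y) (hbij y)
  let N := s.sup n
  let I := ((L ^ (N + 1)).comap f).map f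
  have hIU : ∀ y, I.ideal (U y) = (Ideal.span {(f.app (U y).1).hom (e y) ^ (N + 1)}).comap (f.app (U y).1).hom := by
    intro y
    rw [Scheme.IdealSheafData.ideal_map_of_isAffineHom, H29Blow.ideal_comap _ f (U y) _ le_rfl,
      Scheme.IdealSheafData.ideal_pow, Pi.pow_apply, hUe, Scheme.Hom.appLE_eq_app, Ideal.span_singleton_pow,
      Ideal.map_span, Set.image_singleton, map_pow]
  have hrange : ∀ y ∈ s, ∀ b, ∃ a ∈ I.ideal (U y), a ∈ L.ideal (U y) ∧
      (f.app (U y).1).hom a = (f.app (U y).1).hom (e y) ^ (N + 1) * b := by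
    intro y hy b
    obtain ⟨a, ha⟩ := hn y b
    have hle : n y ≤ N := Finset.le_sup hy
    refine ⟨e y ^ (N - n y + 1) * a, ?_, ?_, ?_⟩
    · rw [hIU, Ideal.mem_comap, Ideal.mem_span_singleton']
      refine ⟨b, ?_⟩
      rw [map_mul, map_pow, ha, ← mul_assoc, ← pow_add, show N - n y + 1 + n y = N + 1 by omega, mul_comm]
    · rw [hUe, pow_succ, mul_assoc, mul_left_comm]
      exact Ideal.mul_mem_right _ _ (Ideal.mem_span_singleton_self _)
    · rw [map_mul, map_pow, ha, ← mul_assoc, ← pow_add, show N - n y + 1 + n y = N + 1 by omega]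
  have hIL : ∀ y ∈ s, I.ideal (U y) ≤ L.ideal (U y) := by
    intro y hy a ha
    rw [hIU, Ideal.mem_comap, Ideal.mem_span_singleton'] at ha
    obtain ⟨b, hb⟩ := ha
    obtain ⟨a', -, ha'L, ha'⟩ := hrange y hy b
    rw [mul_comm] at hb
    exact (hinj y (ha'.trans hb)) ▸ ha'L
  have hblow : BlowUp.IsBlowUp f I := by
    refine isBlowUp_of_cover (fun y : {y // y ∈ s} => (U y.1).1) ?_ fun y => ?_
    · rw [IsOpenCover, eq_top_iff]
      intro z _
      obtain ⟨y, hy, hzy⟩ := Set.mem_iUnion₂.mp (hs (Set.mem_univ z))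
      exact Opens.mem_iSup.mpr ⟨⟨y, hy⟩, hzy⟩
    · have hmap : Ideal.map (f.app (U y.1).1).hom (I.ideal (U y.1)) =
          Ideal.span {(f.app (U y.1).1).hom (e y.1) ^ (N + 1)} := by
        refine le_antisymm ?_ ?_
        · rw [hIU]; exact Ideal.map_comap_le
        · rw [Ideal.span_singleton_le_iff_mem, ← map_pow]
          refine Ideal.mem_map_of_mem _ ?_
          rw [hIU, Ideal.mem_comap, map_pow]
          exact Ideal.mem_span_singleton_self _
      refine isBlowUp_morphismRestrict f I (U y.1).2 (hinj y.1) ?_ _ (pow_mem (hnzd y.1) (N + 1)) hmap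
      intro b hb
      rw [SetLike.mem_coe, hmap, Ideal.mem_span_singleton'] at hb
      obtain ⟨c, rfl⟩ := hb
      obtain ⟨a, haI, -, ha⟩ := hrange y.1 y.2 c
      exact ⟨a, haI, by rw [ha, mul_comm]⟩
  refine ⟨I, le_antisymm ?_ ?_, hblow⟩
  · refine (Scheme.IdealSheafData.support_antitone ((L ^ (N + 1)).le_map_comap f)).trans ?_
    rw [support_pow]
  · intro z hz
    obtain ⟨y, hy, hzy⟩ := Set.mem_iUnion₂.mp (hs (Set.mem_univ z))
    rw [Scheme.IdealSheafData.mem_support_iff_of_mem (U := U y) hzy] at hz ⊢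
    exact Scheme.zeroLocus_mono _ (SetLike.coe_subset_coe.mpr (hIL y hy)) hz

end Groth.Agent.H11Strict
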