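import Groth.Agent.H11Strict.BlowCharts
import Groth.Agent.H11Ample.Ample
import Groth.Agent.H28Mero.ZeroScheme
import Groth.Agent.H11Proj.HProj

/-! A projective birational morphism to an integral Noetherian scheme with an ample module is a blow-up. -/

set_option autoImplicit false
set_option linter.style.haveILetI false
set_option backward.isDefEq.respectTransparency false
universe u

open CategoryTheory CategoryTheory.Limits AlgebraicGeometry TopologicalSpace Opposite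
open Groth.Agent.H11Tilde Groth.Agent.H11Ample Groth.Agent.H11Proj
open Groth.Agent.H11Strict.BlowCharts (fn rt)

namespace Groth.Agent.H11Strict.BlowBir

variable {X' X : Scheme.{u}} [IsIntegral X'] [IsIntegral X] {f : X' ⟶ X} {n : ℕ}

theorem bijective_app_of_isIso {U V : X.Opens} [IsIso (f ∣_ U)] (hV : V ≤ U) :
    Function.Bijective (f.app V) := by
  have e : U.ι ''ᵁ (U.ι ⁻¹ᵁ V) = V := by
    rw [Scheme.Hom.image_preimage_eq_opensRange_inf, Scheme.Opens.opensRange_ι]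
    exact inf_eq_right.2 hV
  suffices key : ∀ V' : X.Opens, U.ι ''ᵁ (U.ι ⁻¹ᵁ V) = V' → IsIso (f.app V') from
    haveI := key V e
    ConcreteCategory.bijective_of_isIso _
  rintro _ rfl
  have h : IsIso ((f ∣_ U).app (U.ι ⁻¹ᵁ V)) := inferInstance
  rw [morphismRestrict_app] at h
  exact IsIso.of_isIso_comp_right _ (X'.presheaf.map (eqToHom (image_morphismRestrict_preimage f U _)).op)

theorem zero_of_res {Y : Scheme.{u}} [IsIntegral Y] {U V : Y.Opens} (h : U ≤ V) (hU : (U : Set Y).Nonempty)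
    {c : Γ(Y, V)} (hc : Y.presheaf.map (homOfLE h).op c = 0) : c = 0 := by
  obtain ⟨y, hy⟩ := hU
  refine germ_injective_of_isIntegral Y y (h hy) ?_
  rw [← Y.presheaf.germ_res_apply (homOfLE h) y hy, hc, map_zero, map_zero]

theorem subsingleton_of_isEmpty {Y : Scheme.{u}} {U : Y.Opens} (h : IsEmpty U) : Subsingleton Γ(Y, U) :=
  ⟨fun a b => TopCat.Presheaf.section_ext Y.sheaf U a b fun y hy => (h.false ⟨y, hy⟩).elim⟩

theorem exists_base_chart (C : Charts f n) (hbir : ∃ U : X.Opens, (U : Set X).Nonempty ∧ IsIso (f ∣_ U)) :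
    ∃ (j₀ : Fin (n + 1)) (U : X.Opens), (U : Set X).Nonempty ∧ IsIso (f ∣_ U) ∧
      ∃ U' : X.Opens, (U' : Set X).Nonempty ∧ U' ≤ U ∧ f ⁻¹ᵁ U' ≤ C.V j₀ := by
  obtain ⟨U, ⟨x, hx⟩, hU⟩ := hbir
  obtain ⟨z, -⟩ := (f ∣_ U).surjective ⟨x, hx⟩
  obtain ⟨j₀, hj₀⟩ := C.cover ((f ⁻¹ᵁ U).ι z)
  let O : (f ⁻¹ᵁ U).toScheme.Opens := (f ⁻¹ᵁ U).ι ⁻¹ᵁ C.V j₀
  refine ⟨j₀, U, ⟨x, hx⟩, hU, U.ι ''ᵁ ((f ∣_ U) ''ᵁ O), ⟨_, _, ⟨z, hj₀, rfl⟩, rfl⟩, ?_, ?_⟩
  · exact U.ι_image_le _
  · rintro y hy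
    have hyU : f y ∈ U := U.ι_image_le _ hy
    obtain ⟨_, ⟨w, hw, rfl⟩, e⟩ := hy
    have e2 : (f ∣_ U) w = (f ∣_ U) ⟨y, hyU⟩ := by
      refine U.ι.isOpenEmbedding.injective (e.trans ?_)
      rw [← Scheme.Hom.comp_apply, morphismRestrict_ι]
      rfl
    rw [(f ∣_ U).isOpenEmbedding.injective e2] at hw
    exact hw

theorem exists_isBlowUp [AlgebraicGeometry.IsNoetherian X] (C : Charts f n) (M : X.Modules) (hM : CohB1.IsAmple M)
    (hbir : ∃ U : X.Opens, (U : Set X).Nonempty ∧ IsIso (f ∣_ U)) :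
    ∃ I : X.IdealSheafData, BlowUp.IsBlowUp f I := by
  classical
  obtain ⟨j₀, U, -, _, U', ⟨x₀, hx₀⟩, hU'U, hU'V⟩ := exists_base_chart C hbir
  obtain ⟨k, s, -, hxs, hsU, -⟩ := exists_affine_gen_le hM hx₀
  let G := gen (CohB1.tensorPow M k) s
  have hGV : f ⁻¹ᵁ G ≤ C.V j₀ := (f.preimage_mono hsU).trans hU'V
  have hbij : ∀ {V : X.Opens}, V ≤ G → Function.Bijective (f.app V) := fun hV =>
    bijective_app_of_isIso ((hV.trans hsU).trans hU'U)
  choose t ht using fun i => (hbij le_rfl).2 (X'.presheaf.map (homOfLE hGV).op (C.ρ j₀ i))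
  choose N hN using fun i => exists_extend_fun hM.1 k s (t i)
  let m := Finset.univ.sup N
  choose S hS using fun i => hN i m (Finset.le_sup (Finset.mem_univ i))
  let P := CohB1.tensorPow M (m * k)
  let σ := fun i => homOfGlobal P (S i)
  have hP : PicF.IsInvertible P := isInvertible_tensorPow hM.1 _
  let I : X.IdealSheafData :=
    ⨆ i, H28Mero.germIdealSheaf (H28Mero.zeroGerm P (σ i)) (H28Mero.isLocPrincipal_zeroGerm P (σ i) hP)
  refine ⟨I, BlowCharts.isBlowUp (C := C) fun x => ?_⟩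
  obtain ⟨V, e, hxV, he⟩ := exists_gen hM.1 x
  obtain ⟨W, hW, hxW, hWV⟩ := exists_isAffineOpen_mem_and_subset (U := V) hxV
  have heW := he.res (show W ≤ V from hWV)
  choose a ha using fun i => exists_coeff (isGen_spow heW (m * k))
    (P.presheaf.map (homOfLE (le_top : W ≤ ⊤)).op (S i))
  obtain ⟨c, hc⟩ := exists_coeff (isGen_spow heW k)
    ((CohB1.tensorPow M k).presheaf.map (homOfLE (le_top : W ≤ ⊤)).op s)
  have hcG : X.basicOpen c = G ⊓ W := (gen_inf_eq_basicOpen (isGen_spow heW k) s c hc).symm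
  -- the relation on the common part
  have hG : ∀ i, X.presheaf.map (homOfLE (inf_le_right : G ⊓ W ≤ W)).op (a i) =
      X.presheaf.map (homOfLE (inf_le_right : G ⊓ W ≤ W)).op c ^ m *
        X.presheaf.map (homOfLE (inf_le_left : G ⊓ W ≤ G)).op (t i) := fun i => by
    have h1 := hS i (G ⊓ W) inf_le_left ((M.presheaf.map (homOfLE hWV).op e |> M.presheaf.map (homOfLE (inf_le_right : G ⊓ W ≤ W)).op))
      (X.presheaf.map (homOfLE (inf_le_right : G ⊓ W ≤ W)).op c) (heW.res inf_le_right) (by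
        have := congrArg ((CohB1.tensorPow M k).presheaf.map (homOfLE (inf_le_right : G ⊓ W ≤ W)).op) hc
        rw [Scheme.Modules.map_smul, H10Coh.mres_mres, spow_res] at this
        exact this)
    have h2 := congrArg (P.presheaf.map (homOfLE (inf_le_right : G ⊓ W ≤ W)).op) (ha i)
    rw [Scheme.Modules.map_smul, H10Coh.mres_mres, spow_res] at h2
    exact ((isGen_spow (heW.res inf_le_right) (m * k)).bijective le_rfl).1
      (by simp only [H10Coh.mres_self]; exact h2.symm.trans h1)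
  refine ⟨⟨W, hW⟩, hxW, ⟨{ a := a, span := ?_, rel := ?_, reg := ?_, ker := ?_ }⟩⟩
  · rw [Scheme.IdealSheafData.ideal_iSup, iSup_apply, Ideal.span, Submodule.span_range_eq_iSup]
    refine iSup_congr fun i => ?_
    rw [H28Mero.germIdealSheaf_ideal, H28Mero.germIdeal_eq_span hW (a i) fun y hy =>
      H28Mero.zeroGerm_eq_span P (σ i) ((isGen_spow heW (m * k)) y hy) ?_]
    have h := congrArg (P.presheaf.germ W y hy) (ha i)
    rw [H06Mod.germ_smul, TopCat.Presheaf.germ_res_apply] at h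
    rw [H28Mero.sGerm, val_homOfGlobal]
    exact h
  all_goals
    -- images on a piece and on its common part with the base chart
    have key : ∀ (j : Fin (n + 1)) (i : Fin (n + 1)) (hle : C.V j ⊓ f ⁻¹ᵁ (G ⊓ W) ≤ C.V j ⊓ f ⁻¹ᵁ W),
        X'.presheaf.map (homOfLE hle).op (fn C W j (a i)) =
          f.appLE (G ⊓ W) (C.V j ⊓ f ⁻¹ᵁ (G ⊓ W)) inf_le_right (X.presheaf.map (homOfLE inf_le_right).op c) ^ m *
          X'.presheaf.map (homOfLE ((inf_le_right.trans (f.preimage_mono inf_le_left)).trans hGV :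
            C.V j ⊓ f ⁻¹ᵁ (G ⊓ W) ≤ C.V j₀)).op (C.ρ j₀ i) := fun j i hle => by
      have h1 : X'.presheaf.map (homOfLE hle).op (fn C W j (a i)) =
          f.appLE (G ⊓ W) (C.V j ⊓ f ⁻¹ᵁ (G ⊓ W)) inf_le_right (X.presheaf.map (homOfLE inf_le_right).op (a i)) := by
        rw [← CategoryTheory.comp_apply (f.appLE _ _ _), Scheme.Hom.appLE_map,
          ← CategoryTheory.comp_apply (X.presheaf.map _), Scheme.Hom.map_appLE]
      have h2 : f.appLE G (C.V j ⊓ f ⁻¹ᵁ (G ⊓ W)) (inf_le_right.trans (f.preimage_mono inf_le_left)) (t i) =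
          X'.presheaf.map (homOfLE ((inf_le_right.trans (f.preimage_mono inf_le_left)).trans hGV :
            C.V j ⊓ f ⁻¹ᵁ (G ⊓ W) ≤ C.V j₀)).op (C.ρ j₀ i) := by
        rw [Scheme.Hom.appLE, CategoryTheory.comp_apply, ht, H10Coh.rres_rres]
      rw [h1, hG, map_mul, map_pow]
      congr 1
      rw [← CategoryTheory.comp_apply (X.presheaf.map _), Scheme.Hom.map_appLE]
      exact h2
    have hne : ∀ j, Nonempty (C.V j ⊓ f ⁻¹ᵁ W : X'.Opens) →
        ((C.V j ⊓ f ⁻¹ᵁ (G ⊓ W) : X'.Opens) : Set X').Nonempty := fun j ⟨⟨y, hy⟩⟩ => by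
      have h1 : ((f ⁻¹ᵁ G : X'.Opens) : Set X').Nonempty := by
        haveI : IsIso (f ∣_ U) := inferInstance
        obtain ⟨z, hz⟩ := (f ∣_ U).surjective ⟨x₀, hU'U hx₀⟩
        refine ⟨(f ⁻¹ᵁ U).ι z, ?_⟩
        show f ((f ⁻¹ᵁ U).ι z) ∈ G
        rw [← Scheme.Hom.comp_apply, ← morphismRestrict_ι, Scheme.Hom.comp_apply, hz]
        exact hxs
      obtain ⟨z, hz, hz'⟩ := nonempty_preirreducible_inter (C.V j ⊓ f ⁻¹ᵁ W : X'.Opens).2 (f ⁻¹ᵁ G).2 ⟨y, hy⟩ h1
      exact ⟨z, hz.1, hz', hz.2⟩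
    have hle : ∀ j, C.V j ⊓ f ⁻¹ᵁ (G ⊓ W) ≤ C.V j ⊓ f ⁻¹ᵁ W := fun j =>
      inf_le_inf_left _ (f.preimage_mono inf_le_right)
  · intro j i
    rcases isEmpty_or_nonempty (C.V j ⊓ f ⁻¹ᵁ W : X'.Opens) with hem | hne'
    · haveI := subsingleton_of_isEmpty hem
      exact Subsingleton.elim _ _
    refine sub_eq_zero.mp (zero_of_res (hle j) (hne j hne') ?_)
    rw [map_sub, map_mul, key j i, key j j, sub_eq_zero, rt, H10Coh.rres_rres]
    have hV : C.V j ⊓ f ⁻¹ᵁ (G ⊓ W) ≤ C.V j₀ ⊓ C.V j :=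
      le_inf ((inf_le_right.trans (f.preimage_mono inf_le_left)).trans hGV) inf_le_left
    have h := congrArg (X'.presheaf.map (homOfLE (show C.V j ⊓ f ⁻¹ᵁ (G ⊓ W) ≤ C.V j ⊓ C.V j₀ from
      hV.trans (inf_comm _ _).le)).op) (C.cocycle j j₀ i)
    rw [map_mul, H10Coh.rres_rres, H10Coh.rres_rres, H10Coh.rres_rres] at h
    rw [h]
    ring
  · intro j
    rcases isEmpty_or_nonempty (C.V j ⊓ f ⁻¹ᵁ W : X'.Opens) with hem | hne'
    · haveI := subsingleton_of_isEmpty hem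
      exact mem_nonZeroDivisors_iff_right.mpr fun z _ => Subsingleton.elim _ _
    haveI := hne'
    refine mem_nonZeroDivisors_of_ne_zero fun h0 => ?_
    obtain ⟨y, hy⟩ := hne j hne'
    have h := congrArg (X'.presheaf.germ (C.V j ⊓ f ⁻¹ᵁ (G ⊓ W)) y hy)
      ((congrArg (X'.presheaf.map (homOfLE (hle j)).op) h0).symm.trans (key j j (hle j)))
    rw [map_zero, map_zero, map_mul, map_pow] at h
    refine not_isUnit_zero (h ▸ IsUnit.mul (IsUnit.pow m ?_) ?_)
    · have hy' : y ∈ f ⁻¹ᵁ X.basicOpen c := by rw [hcG]; exact hy.2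
      rw [Scheme.preimage_basicOpen] at hy'
      have := (X'.mem_basicOpen _ y (show f y ∈ W from hy.2.2)).mp hy'
      rw [Scheme.Hom.appLE, CategoryTheory.comp_apply, TopCat.Presheaf.germ_res_apply]
      rw [show f.app (G ⊓ W) (X.presheaf.map (homOfLE inf_le_right).op c) =
        X'.presheaf.map (homOfLE (f.preimage_mono inf_le_right)).op (f.app W c) from
        congr($(f.naturality (homOfLE (inf_le_right : G ⊓ W ≤ W)).op) c), TopCat.Presheaf.germ_res_apply]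
      exact this
    · rw [TopCat.Presheaf.germ_res_apply]
      exact (X'.mem_basicOpen _ y (hGV hy.2.1)).mp ((C.basicOpen_eq j₀ j).ge ⟨hGV hy.2.1, hy.1⟩)
  · intro j z hz
    by_cases hWG : ((G ⊓ W : X.Opens) : Set X).Nonempty
    swap
    · exact absurd (nonempty_preirreducible_inter G.2 W.2 ⟨x₀, hxs⟩ ⟨x, hxW⟩) hWG
    rcases isEmpty_or_nonempty (C.V j ⊓ f ⁻¹ᵁ W : X'.Opens) with hem | hne'
    · refine ⟨1, ?_⟩
      have : a j = 0 := by
        refine zero_of_res inf_le_right hWG ((hbij inf_le_left).1 ?_)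
        rw [hG, map_mul, map_zero]
        have h2 : f.app (G ⊓ W) (X.presheaf.map (homOfLE (inf_le_left : G ⊓ W ≤ G)).op (t j)) =
            X'.presheaf.map (homOfLE (f.preimage_mono inf_le_left)).op (f.app G (t j)) :=
          congr($(f.naturality (homOfLE (inf_le_left : G ⊓ W ≤ G)).op) (t j))
        rw [h2, ht, H10Coh.rres_rres]
        have hbot : X'.basicOpen (X'.presheaf.map (homOfLE ((f.preimage_mono inf_le_left).trans hGV :
            f ⁻¹ᵁ (G ⊓ W) ≤ C.V j₀)).op (C.ρ j₀ j)) = ⊥ := by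
          rw [Scheme.basicOpen_res, C.basicOpen_eq, eq_bot_iff]
          rintro y ⟨hy, hy'⟩
          exact (hem.false ⟨y, hy'.2, hy.2⟩).elim
        rw [(basicOpen_eq_bot_iff _).mp hbot, mul_zero]
      rw [pow_one, this, zero_mul]
    refine ⟨0, ?_⟩
    rw [pow_zero, one_mul]
    refine zero_of_res inf_le_right hWG ((hbij inf_le_left).1 ?_)
    rw [map_zero]
    obtain ⟨y, hy⟩ := hne j hne'
    refine zero_of_res (inf_le_right : C.V j ⊓ f ⁻¹ᵁ (G ⊓ W) ≤ f ⁻¹ᵁ (G ⊓ W)) ⟨y, hy⟩ ?_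
    show (X.presheaf.map _ ≫ f.appLE (G ⊓ W) (C.V j ⊓ f ⁻¹ᵁ (G ⊓ W)) inf_le_right) z = 0
    rw [Scheme.Hom.map_appLE]
    show (f.appLE W _ ((hle j).trans inf_le_right)) z = 0
    rw [← f.appLE_map inf_le_right (homOfLE (hle j)).op, CategoryTheory.comp_apply]
    exact (congrArg _ hz).trans (map_zero _)

end Groth.Agent.H11Strict.BlowBir
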