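import Groth.Agent.H11Strict.BlowProj
import Groth.Agent.H11Proj.ChartAlgProj
import Groth.Agent.H11Strict.FreeExt

/-! A morphism with coordinate charts of blow-up type is a blow-up. -/

set_option autoImplicit false
set_option linter.style.haveILetI false
set_option backward.isDefEq.respectTransparency false
universe u

open CategoryTheory CategoryTheory.Limits AlgebraicGeometry TopologicalSpace Opposite
open Groth.Agent.H26Blow Groth.Agent.H11Proj

namespace Groth.Agent.H11Strict.BlowCharts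

/-- The lift to an affine blow-up algebra is bijective when the ratios generate. -/
theorem bijective_lift {A : Type u} [CommRing A] (I : Ideal A) {n : ℕ} (a : Fin n → I) (l : Fin n)
    {S : Type u} [CommRing S] (φ : A →+* S) (r : Fin n → S) (hr : ∀ i, φ (a i : A) = r i * φ (a l : A))
    (hreg : φ (a l : A) ∈ nonZeroDivisors S) (hgen : Subring.closure (Set.range φ ∪ Set.range r) = ⊤)
    (hker : ∀ c, φ c = 0 → ∃ m : ℕ, (a l : A) ^ m * c = 0)
    (ψ : Alg I (a l) →+* S) (hψ : ψ.comp (algebraMap A _) = φ) :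
    Function.Bijective ψ ∧ ∀ i, ψ (frac I (a l) (a i)) = r i := by
  have hψ' : ∀ x, ψ (algebraMap A _ x) = φ x := RingHom.congr_fun hψ
  have hfrac : ∀ i, ψ (frac I (a l) (a i)) = r i := fun i => by
    refine (mul_cancel_right_mem_nonZeroDivisors hreg).mp ?_
    rw [← hr, ← hψ', ← hψ', ← map_mul, frac_spec]
  refine ⟨⟨?_, fun y => ?_⟩, hfrac⟩
  · rw [injective_iff_map_eq_zero]
    intro z hz
    obtain ⟨⟨c, _, k, rfl⟩, hc⟩ := IsLocalization.surj (Submonoid.powers (a l : A)) (z : Localization.Away (a l : A))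
    have hc' : z * algebraMap A (Alg I (a l)) ((a l : A) ^ k) = algebraMap A (Alg I (a l)) c := Subtype.ext hc
    have h0 := congrArg ψ hc'
    rw [map_mul, hz, zero_mul, hψ'] at h0
    obtain ⟨m, hm⟩ := hker c h0.symm
    refine mem_nonZeroDivisors_iff_right.mp (pow_mem (algebraMap_mem_nonZeroDivisors I (a l)) (k + m)) z ?_
    rw [pow_add, ← mul_assoc, ← map_pow, hc', ← map_pow, ← map_mul, mul_comm, hm, map_zero]
  · suffices h : Subring.closure (Set.range φ ∪ Set.range r) ≤ ψ.range from h (hgen.ge (Subring.mem_top y))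
    rw [Subring.closure_le]
    rintro _ (⟨x, rfl⟩ | ⟨i, rfl⟩)
    · exact ⟨_, hψ' x⟩
    · exact ⟨_, hfrac i⟩

variable {X X' : Scheme.{u}} {f : X' ⟶ X} {n : ℕ} (C : Charts f n)

/-- The piece of a chart over an open. -/
abbrev O (W : X.Opens) (j : Fin (n + 1)) : X'.Opens := C.V j ⊓ f ⁻¹ᵁ W

/-- The image of a function on the base in a piece. -/
noncomputable abbrev fn (W : X.Opens) (j : Fin (n + 1)) : Γ(X, W) →+* Γ(X', O C W j) :=
  (f.appLE W (O C W j) inf_le_right).hom

/-- The ratio in a piece. -/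
noncomputable abbrev rt (W : X.Opens) (j i : Fin (n + 1)) : Γ(X', O C W j) :=
  X'.presheaf.map (homOfLE (inf_le_left : O C W j ≤ C.V j)).op (C.ρ j i)

variable (I : X.IdealSheafData)

/-- The hypotheses over one affine open of the base. -/
structure Local (W : X.affineOpens) where
  a : Fin (n + 1) → Γ(X, W.1)
  span : I.ideal W = Ideal.span (Set.range a)
  rel : ∀ j i, fn C W.1 j (a i) = rt C W.1 j i * fn C W.1 j (a j)
  reg : ∀ j, fn C W.1 j (a j) ∈ nonZeroDivisors Γ(X', O C W.1 j)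
  ker : ∀ j c, fn C W.1 j c = 0 → ∃ m : ℕ, a j ^ m * c = 0

variable {C I}

theorem closure_eq_top (W : X.Opens) (hW : IsAffineOpen W) (j : Fin (n + 1)) :
    Subring.closure (Set.range (fn C W j) ∪ Set.range (rt C W j)) = ⊤ := by
  refine eq_top_iff.2 fun y hy => ?_
  clear hy
  obtain ⟨P, rfl⟩ := C.surj W hW j y
  induction P using MvPolynomial.induction_on with
  | C r => rw [ChartAlg.hom, MvPolynomial.eval₂Hom_C]; exact Subring.subset_closure (Or.inl ⟨r, rfl⟩)
  | add P Q hP hQ => rw [map_add]; exact add_mem hP hQ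
  | mul_X P l hP =>
    rw [map_mul]
    refine mul_mem hP ?_
    rw [ChartAlg.hom, MvPolynomial.eval₂Hom_X']
    exact Subring.subset_closure (Or.inr ⟨l, rfl⟩)

theorem Local.mem {W : X.affineOpens} (L : Local C I W) (j : Fin (n + 1)) : L.a j ∈ I.ideal W :=
  L.span.ge (Ideal.subset_span ⟨j, rfl⟩)

theorem Local.ideal_comap {W : X.affineOpens} (L : Local C I W) (j : Fin (n + 1)) :
    (I.comap f).ideal ⟨O C W.1 j, C.affine W.1 W.2 j⟩ = Ideal.span {fn C W.1 j (L.a j)} := by
  rw [H29Blow.ideal_comap I f W ⟨O C W.1 j, C.affine W.1 W.2 j⟩ inf_le_right, L.span, Ideal.map_span]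
  refine le_antisymm (Ideal.span_le.2 ?_) (Ideal.span_mono (Set.singleton_subset_iff.2 ⟨_, ⟨j, rfl⟩, rfl⟩))
  rintro _ ⟨_, ⟨i, rfl⟩, rfl⟩
  exact Ideal.mem_span_singleton'.2 ⟨rt C W.1 j i, (L.rel j i).symm⟩

/-- Coordinate charts of blow-up type. -/
theorem isBlowUp (h : ∀ x : X, ∃ W : X.affineOpens, x ∈ W.1 ∧ Nonempty (Local C I W)) :
    BlowUp.IsBlowUp f I := by
  choose W hxW hL using h
  have L := fun x => (hL x).some
  obtain ⟨B, b, hb⟩ := exists_isBlowUp (X := X) I
  have heff : BlowUp.IsEffCartierIdeal (I.comap f) := fun y => by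
    obtain ⟨j, hj⟩ := C.cover y
    exact ⟨⟨_, C.affine _ (W (f y)).2 j⟩, ⟨hj, hxW (f y)⟩, _, (L (f y)).reg j, (L (f y)).ideal_comap j⟩
  obtain ⟨g, hg, hgu⟩ := hb.2 X' f heff
  choose k hk hkb hkr using fun x => BlowProj.exists_proj_chart hb (W x)
  haveI := hk
  let a := fun x j => (⟨(L x).a j, (L x).mem j⟩ : I.ideal (W x))
  choose ψ hψ using fun x j => (existsUnique_lift (I.ideal (W x)) (a x j) (fn C (W x).1 j) ((L x).reg j) (fun z hz => by
    have hz' := Ideal.mem_map_of_mem (fn C (W x).1 j) hz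
    rw [show (I.ideal (W x)).map (fn C (W x).1 j) = (I.comap f).ideal ⟨_, C.affine _ (W x).2 j⟩ from
      (H29Blow.ideal_comap I f (W x) ⟨_, C.affine _ (W x).2 j⟩ inf_le_right).symm, (L x).ideal_comap j] at hz'
    exact hz')).exists
  have hbij := fun x j => bijective_lift (I.ideal (W x)) (a x) j (fn C (W x).1 j) (rt C (W x).1 j)
    ((L x).rel j) ((L x).reg j) (closure_eq_top (W x).1 (W x).2 j) ((L x).ker j) (ψ x j) (hψ x j)
  have hcomp : ∀ x j, (C.affine (W x).1 (W x).2 j).fromSpec ≫ g =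
      Spec.map (CommRingCat.ofHom (ψ x j)) ≫ H26Blow.j (I.ideal (W x)) (a x j) ≫ k x := fun x j => by
    have e : (Spec.map (CommRingCat.ofHom (ψ x j)) ≫ H26Blow.j (I.ideal (W x)) (a x j) ≫ k x) ≫ b =
        (C.affine (W x).1 (W x).2 j).fromSpec ≫ f := by
      rw [Category.assoc, BlowProj.j_comp (k x) (hkb x), ← Spec.map_comp_assoc, ← CommRingCat.ofHom_comp, hψ x j]
      exact IsAffineOpen.SpecMap_appLE_fromSpec f (W x).2 (C.affine _ (W x).2 j) inf_le_right
    have hcart : BlowUp.IsEffCartierIdeal (I.comap ((C.affine (W x).1 (W x).2 j).fromSpec ≫ f)) := by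
      rw [Scheme.IdealSheafData.comap_comp]
      exact H29Blow.isEffCartierIdeal_comap_of_flat heff _
    obtain ⟨h₀, -, hu⟩ := hb.2 _ _ hcart
    rw [hu _ (show ((C.affine (W x).1 (W x).2 j).fromSpec ≫ g) ≫ b = _ by rw [Category.assoc, hg]), hu _ e]
  have hpre : ∀ x j, g ⁻¹ᵁ BlowProj.cO (k x) (a x j) = O C (W x).1 j := fun x j => by
    refine le_antisymm (fun y hy => ?_) fun y hy => ?_
    · have hyW : f y ∈ (W x).1 := by
        rw [← hg, Scheme.Hom.comp_apply]
        exact BlowProj.cO_le (k x) (hkb x) _ hy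
      obtain ⟨i, hi⟩ := C.cover y
      have hyi : y ∈ O C (W x).1 i := ⟨hi, hyW⟩
      obtain ⟨p, hp⟩ := (C.affine (W x).1 (W x).2 i).range_fromSpec.ge hyi
      have hy' : H26Blow.j (I.ideal (W x)) (a x i) (Spec.map (CommRingCat.ofHom (ψ x i)) p) ∈
          Proj.basicOpen (gr (I.ideal (W x))) (T (I.ideal (W x)) (a x j)) := by
        rw [← opensRange_j]
        obtain ⟨w, hw⟩ := hy
        refine ⟨w, (k x).isOpenEmbedding.injective ?_⟩
        rw [← hp, ← Scheme.Hom.comp_apply (C.affine (W x).1 (W x).2 i).fromSpec, hcomp x i] at hw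
        exact hw
      rw [mem_basicOpen_j] at hy'
      have hp' : p ∈ PrimeSpectrum.basicOpen (rt C (W x).1 i j) := by
        rw [← (hbij x i).2 j]; exact hy'
      rw [← (C.affine (W x).1 (W x).2 i).fromSpec_preimage_basicOpen] at hp'
      have h2 : y ∈ X'.basicOpen (rt C (W x).1 i j) := hp ▸ hp'
      rw [Scheme.basicOpen_res, C.basicOpen_eq] at h2
      exact ⟨h2.2.2, hyW⟩
    · obtain ⟨p, rfl⟩ := (C.affine (W x).1 (W x).2 j).range_fromSpec.ge hy
      show g ((C.affine (W x).1 (W x).2 j).fromSpec p) ∈ BlowProj.cO (k x) (a x j)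
      rw [← Scheme.Hom.comp_apply, hcomp x j]
      exact ⟨_, rfl⟩
  haveI : IsIso g := by
    show MorphismProperty.isomorphisms Scheme.{u} g
    refine IsZariskiLocalAtTarget.of_iSup_eq_top (P := MorphismProperty.isomorphisms Scheme.{u})
      (fun p : X × Fin (n + 1) => BlowProj.cO (k p.1) (a p.1 p.2)) (top_le_iff.1 fun y _ => ?_) fun p => ?_
    · obtain ⟨j, hj⟩ := BlowProj.exists_mem_cO (k (b y)) (a (b y)) (L (b y)).span ((hkr (b y)).ge (hxW (b y)))
      exact Opens.mem_iSup.2 ⟨(b y, j), hj⟩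
    · obtain ⟨x, j⟩ := p
      haveI : IsIso (Spec.map (CommRingCat.ofHom (ψ x j))) := by
        haveI : IsIso (CommRingCat.ofHom (ψ x j)) :=
          (RingEquiv.ofBijective _ (hbij x j).1).toCommRingCatIso.isIso_hom
        infer_instance
      let c := H26Blow.j (I.ideal (W x)) (a x j) ≫ k x
      have hp : IsPullback (Spec.map (CommRingCat.ofHom (ψ x j))) (C.affine (W x).1 (W x).2 j).fromSpec c g :=
        IsOpenImmersion.isPullback _ _ _ _ (hcomp x j)
          (by rw [IsAffineOpen.opensRange_fromSpec]; exact hpre x j)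
      have hp' : IsPullback ((g ∣_ c.opensRange) ≫ c.isoOpensRange.inv) (g ⁻¹ᵁ c.opensRange).ι c g :=
        (isPullback_morphismRestrict g c.opensRange).of_iso (Iso.refl _) c.isoOpensRange.symm (Iso.refl _) (Iso.refl _)
          (by simp) (by simp) (by simp [(Iso.inv_comp_eq _).mpr (Scheme.Hom.isoOpensRange_hom_ι c).symm]) (by simp)
      show IsIso (g ∣_ c.opensRange)
      haveI : IsIso ((g ∣_ c.opensRange) ≫ c.isoOpensRange.inv) := by
        rw [← hp'.isoIsPullback_hom_fst _ _ hp]; infer_instance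
      exact IsIso.of_isIso_comp_right (g ∣_ c.opensRange) c.isoOpensRange.inv
  have := isBlowUp_iso_comp hb (asIso g) (by rw [asIso_hom, hg]; exact heff)
  rwa [asIso_hom, hg] at this

end Groth.Agent.H11Strict.BlowCharts
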