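import Groth.Agent.H11Strict.BlowProj
import Groth.Agent.H11Strict.Admissible

/-! The composition of two blow-ups in finite type centres is a blow-up. -/

set_option autoImplicit false
set_option linter.style.haveILetI false
set_option backward.isDefEq.respectTransparency false
universe u

open CategoryTheory CategoryTheory.Limits AlgebraicGeometry TopologicalSpace Opposite
open Groth.Agent.H26Blow Groth.Agent.H11Strict.BlowProj

namespace Groth.Agent.H11Strict

theorem exists_mul_pow {A : Type u} [CommRing A] (I : Ideal A) (a : I) (z : Alg I a) :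
    ∃ (N : ℕ) (y : A), y ∈ I ^ N ∧ z * algebraMap A _ (a : A) ^ N = algebraMap A _ y := by
  obtain ⟨w, rfl⟩ := (chartEquiv I a).surjective z
  obtain ⟨n, x, hx, rfl⟩ := HomogeneousLocalization.Away.mk_surjective (gr I) (T_mem I a) w
  refine ⟨n, _, (mem_reesAlgebra_iff I _).1 x.2 n, Subtype.ext ?_⟩
  exact toLoc_mk I a n x hx

theorem mem_map_of_forall {X X' : Scheme.{u}} (b : X' ⟶ X) [QuasiCompact b] (S : X'.IdealSheafData)
    (U : X.affineOpens) (x : Γ(X, U.1))
    (h : ∀ y ∈ b ⁻¹ᵁ U.1, ∃ (O : X'.affineOpens) (e : O.1 ≤ b ⁻¹ᵁ U.1), y ∈ O.1 ∧ b.appLE U.1 O.1 e x ∈ S.ideal O) :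
    x ∈ (S.map b).ideal U := by
  show x ∈ (S.subschemeι ≫ b).ker.ideal U
  rw [Scheme.Hom.ker_apply, RingHom.mem_ker]
  refine TopCat.Presheaf.section_ext S.subscheme.sheaf _ _ _ fun w hw => ?_
  obtain ⟨O, e, hwO, hx⟩ := h (S.subschemeι w) hw
  have h0 : S.subschemeι.app O.1 (b.appLE U.1 O.1 e x) = 0 := by
    rw [← RingHom.mem_ker, S.ker_subschemeι_app O]; exact hx
  show S.subscheme.presheaf.germ _ w hw ((S.subschemeι ≫ b).app U.1 x) = S.subscheme.presheaf.germ _ w hw 0
  rw [map_zero]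
  refine (S.subscheme.presheaf.germ_res_apply (homOfLE (S.subschemeι.preimage_mono e)) w hwO _).symm.trans ?_
  have : S.subscheme.presheaf.map (homOfLE (S.subschemeι.preimage_mono e)).op ((S.subschemeι ≫ b).app U.1 x) =
      S.subschemeι.app O.1 (b.appLE U.1 O.1 e x) := by
    rw [Scheme.Hom.comp_app, CategoryTheory.comp_apply, Scheme.Hom.appLE, CategoryTheory.comp_apply]
    exact (congr($(S.subschemeι.naturality (homOfLE e).op) (b.app U.1 x))).symm
  exact (congrArg _ (this.trans h0)).trans (map_zero _)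

theorem comap_pow {X X' : Scheme.{u}} (b : X' ⟶ X) (I : X.IdealSheafData) (n : ℕ) :
    (I ^ n).comap b = I.comap b ^ n := by
  induction n with
  | zero => rw [pow_zero, pow_zero, Scheme.IdealSheafData.one_eq_top, Scheme.IdealSheafData.comap_top,
      Scheme.IdealSheafData.one_eq_top]
  | succ m ih => rw [pow_succ, pow_succ, H29Blow.comap_mul, ih]

section

variable {X X' : Scheme.{u}} {b : X' ⟶ X} {I : X.IdealSheafData} {U : X.affineOpens}
  (k : Proj (gr (I.ideal U)) ⟶ X') [IsOpenImmersion k] (hk : k ≫ b = π (I.ideal U) ≫ U.2.fromSpec)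

/-- The image of a function on the base in a chart. -/
noncomputable abbrev img (a : I.ideal U) : Γ(X, U.1) →+* Γ(X', cO k a) :=
  (b.appLE U.1 (cO k a) (cO_le k hk a)).hom

include hk in
theorem exists_fraction (a : I.ideal U) (z : Γ(X', cO k a)) :
    ∃ (N : ℕ) (y : Γ(X, U.1)), y ∈ I.ideal U ^ N ∧ z * img k hk a (a : Γ(X, U.1)) ^ N = img k hk a y := by
  obtain ⟨N, y, hy, e⟩ := exists_mul_pow (I.ideal U) a (φ k a z)
  refine ⟨N, y, hy, (φ_bijective k a).1 ?_⟩
  rw [map_mul, map_pow, φ_appLE k hk, φ_appLE k hk]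
  exact e

include hk in
theorem mem_chart_of_pow (J : X'.IdealSheafData) (a c : I.ideal U) {N : ℕ} {y : Γ(X, U.1)}
    (hy : y ∈ I.ideal U ^ N) (z : Γ(X', cO k a)) (hz : z ∈ J.ideal ⟨cO k a, cO_affine k a⟩)
    (hzy : z * img k hk a (a : Γ(X, U.1)) ^ N = img k hk a y) :
    ∃ p, ∀ q, p ≤ q → img k hk c ((a : Γ(X, U.1)) ^ q * y) ∈
      (J * BlowUp.exceptional b I ^ (q + N)).ideal ⟨cO k c, cO_affine k c⟩ := by
  obtain ⟨hid, hnzd⟩ := ideal_cO k hk c
  obtain ⟨ε, hε⟩ := (φ_bijective k c).2 (frac (I.ideal U) c a)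
  have hεm : ε * img k hk c (c : Γ(X, U.1)) = img k hk c (a : Γ(X, U.1)) := by
    refine (φ_bijective k c).1 ?_
    rw [map_mul, hε, φ_appLE k hk, φ_appLE k hk, frac_spec]
  obtain ⟨z', hz'⟩ : ∃ z', z' * img k hk c (c : Γ(X, U.1)) ^ N = img k hk c y := by
    have : img k hk c y ∈ Ideal.span {img k hk c (c : Γ(X, U.1))} ^ N := by
      have h := Ideal.mem_map_of_mem (img k hk c) hy
      rw [Ideal.map_pow] at h
      refine Ideal.pow_right_mono ?_ N h
      rw [← hid, H29Blow.ideal_comap I b U ⟨cO k c, cO_affine k c⟩ (cO_le k hk c)]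
    rw [Ideal.span_singleton_pow, Ideal.mem_span_singleton'] at this
    exact this
  let D : X'.affineOpens := ⟨X'.basicOpen ε, (cO_affine k c).basicOpen ε⟩
  have hDc : D.1 ≤ cO k c := X'.basicOpen_le ε
  have hDa : D.1 ≤ cO k a := fun w hw => mem_cO_of_basicOpen k c a ε hε hw
  haveI := (cO_affine k c).isLocalization_basicOpen ε
  have hnzdD : X'.presheaf.map (homOfLE hDc).op (img k hk c (c : Γ(X, U.1))) ∈ nonZeroDivisors Γ(X', D.1) :=
    IsLocalization.map_nonZeroDivisors_le (Submonoid.powers ε) Γ(X', D.1) (Submonoid.mem_map_of_mem _ hnzd)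
  have hres : ∀ x, X'.presheaf.map (homOfLE hDa).op (img k hk a x) =
      X'.presheaf.map (homOfLE hDc).op (img k hk c x) := fun x => by
    rw [← CategoryTheory.comp_apply (b.appLE _ _ _), ← CategoryTheory.comp_apply (b.appLE _ _ _),
      Scheme.Hom.appLE_map, Scheme.Hom.appLE_map]
  have hmem : algebraMap Γ(X', cO k c) Γ(X', D.1) z' ∈
      (J.ideal ⟨cO k c, cO_affine k c⟩).map (algebraMap Γ(X', cO k c) Γ(X', D.1)) := by
    have e : X'.presheaf.map (homOfLE hDc).op z' =
        X'.presheaf.map (homOfLE hDc).op ε ^ N * X'.presheaf.map (homOfLE hDa).op z := by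
      refine (mul_cancel_right_mem_nonZeroDivisors (pow_mem hnzdD N)).1 ?_
      rw [← map_pow, ← map_mul, hz', ← hres y, ← hzy, map_mul, map_pow, hres, ← hεm, map_mul]
      simp only [map_pow, mul_pow]
      ring
    have h1 : X'.presheaf.map (homOfLE hDc).op z' ∈
        (J.ideal ⟨cO k c, cO_affine k c⟩).map (X'.presheaf.map (homOfLE hDc).op).hom := by
      refine ((J.map_ideal (U := D) (V := ⟨cO k c, cO_affine k c⟩) hDc).ge : _) ?_
      rw [e]
      exact Ideal.mul_mem_left _ _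
        ((J.map_ideal (U := D) (V := ⟨cO k a, cO_affine k a⟩) hDa).le (Ideal.mem_map_of_mem _ hz))
    exact h1
  obtain ⟨_, ⟨p, rfl⟩, hp⟩ :=
    (IsLocalization.algebraMap_mem_map_algebraMap_iff (Submonoid.powers ε) (S := Γ(X', D.1)) _ _).1 hmem
  refine ⟨p, fun q hq => ?_⟩
  obtain ⟨d, rfl⟩ := Nat.exists_eq_add_of_le hq
  have e : img k hk c ((a : Γ(X, U.1)) ^ (p + d) * y) =
      (ε ^ d * (ε ^ p * z')) * img k hk c (c : Γ(X, U.1)) ^ (p + d + N) := by
    rw [map_mul, map_pow, ← hz', ← hεm]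
    ring
  rw [e, Scheme.IdealSheafData.ideal_mul, Pi.mul_apply, Scheme.IdealSheafData.ideal_pow, Pi.pow_apply]
  exact Ideal.mul_mem_mul (Ideal.mul_mem_left _ _ hp)
    (Ideal.pow_mem_pow (hid.ge (Ideal.mem_span_singleton_self _)) _)

include hk in
theorem exists_preimages (J : X'.IdealSheafData) (hJ : BlowUp.IsFiniteTypeIdeal J) (hqc : QuasiCompact b)
    (hI : (I.ideal U).FG) (hr : k.opensRange = b ⁻¹ᵁ U.1) :
    ∃ n₀, ∀ n, n₀ ≤ n → ∃ s : Finset Γ(X, U.1),
      (s : Set Γ(X, U.1)) ⊆ ((J * BlowUp.exceptional b I ^ n).map b).ideal U ∧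
      ∀ y ∈ b ⁻¹ᵁ U.1, ∃ (O : X'.affineOpens) (e : O.1 ≤ b ⁻¹ᵁ U.1), y ∈ O.1 ∧
        (J * BlowUp.exceptional b I ^ n).ideal O ≤ (Ideal.span (s : Set Γ(X, U.1))).map (b.appLE U.1 O.1 e).hom := by
  classical
  obtain ⟨r, g₀, hg₀⟩ := Submodule.fg_iff_exists_fin_generating_family.1 hI
  let g : Fin r → I.ideal U := fun l => ⟨g₀ l, hg₀.le (Ideal.subset_span ⟨l, rfl⟩)⟩
  have hg : I.ideal U = Ideal.span (Set.range fun l => (g l : Γ(X, U.1))) := hg₀.symm
  choose t ht using fun l => hJ ⟨cO k (g l), cO_affine k (g l)⟩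
  choose N y hy hzy using fun (p : Σ l, (t l : Set Γ(X', cO k (g l)))) => exists_fraction k hk (g p.1) p.2.1
  choose P hP using fun (p : Σ l, (t l : Set Γ(X', cO k (g l)))) (m : Fin r) =>
    mem_chart_of_pow k hk J (g p.1) (g m) (hy p) p.2.1 ((ht p.1).le (Ideal.subset_span p.2.2)) (hzy p)
  refine ⟨Finset.univ.sup fun q : (Σ l, (t l : Set Γ(X', cO k (g l)))) × Fin r => N q.1 + P q.1 q.2, fun n hn => ?_⟩
  have hle : ∀ p m, N p + P p m ≤ n := fun p m =>
    (Finset.le_sup (f := fun q : (Σ l, (t l : Set Γ(X', cO k (g l)))) × Fin r => N q.1 + P q.1 q.2)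
      (Finset.mem_univ (p, m))).trans hn
  refine ⟨Finset.univ.image fun p => (g p.1 : Γ(X, U.1)) ^ (n - N p) * y p, ?_, fun w hw => ?_⟩
  · rw [Finset.coe_image]
    rintro _ ⟨p, -, rfl⟩
    refine mem_map_of_forall b _ U _ fun w hw => ?_
    obtain ⟨m, hm⟩ := exists_mem_cO k g hg (hr.ge hw)
    refine ⟨⟨cO k (g m), cO_affine k (g m)⟩, cO_le k hk _, hm, ?_⟩
    have h := hP p m (n - N p) (by have := hle p m; omega)
    rwa [Nat.sub_add_cancel (le_of_add_le_left (hle p m))] at h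
  · obtain ⟨l, hl⟩ := exists_mem_cO k g hg (hr.ge hw)
    refine ⟨⟨cO k (g l), cO_affine k (g l)⟩, cO_le k hk _, hl, ?_⟩
    rw [Scheme.IdealSheafData.ideal_mul, Pi.mul_apply, Scheme.IdealSheafData.ideal_pow, Pi.pow_apply,
      (ideal_cO k hk (g l)).1, ← ht l, Ideal.span_singleton_pow, ← Ideal.submodule_span_eq, Submodule.span_mul_span]
    refine Submodule.span_le.2 ?_
    rintro _ ⟨z, hz, _, rfl, rfl⟩
    let p : Σ l, (t l : Set Γ(X', cO k (g l))) := ⟨l, z, hz⟩
    have hpos : N p ≤ n := le_of_add_le_left (hle p l)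
    have e : img k hk (g l) ((g l : Γ(X, U.1)) ^ (n - N p) * y p) = z * img k hk (g l) (g l : Γ(X, U.1)) ^ n := by
      have h := hzy p
      rw [map_mul, map_pow, ← h, mul_left_comm, ← pow_add, Nat.sub_add_cancel hpos]
    show z * img k hk (g l) (g l : Γ(X, U.1)) ^ n ∈ _
    rw [← e]
    exact Ideal.mem_map_of_mem _ (Ideal.subset_span (Finset.mem_coe.2 (Finset.mem_image.2 ⟨p, Finset.mem_univ _, rfl⟩)))

end

/-- The composition of two blow-ups in finite type centres. -/
theorem exists_isBlowUp_comp {X X' X'' : Scheme.{u}} [CompactSpace X] [QuasiSeparatedSpace X]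
    (I : X.IdealSheafData) (hI : BlowUp.IsFiniteTypeIdeal I) (b : X' ⟶ X) (hb : BlowUp.IsBlowUp b I)
    (J : X'.IdealSheafData) (hJ : BlowUp.IsFiniteTypeIdeal J) (b' : X'' ⟶ X') (hb' : BlowUp.IsBlowUp b' J) :
    ∃ K : X.IdealSheafData, BlowUp.IsFiniteTypeIdeal K ∧
      (K.support : Set X) = (I.support : Set X) ∪ (fun x' => b x') '' (J.support : Set X') ∧
      BlowUp.IsBlowUp (b' ≫ b) K := by
  classical
  haveI : IsProper b := isProper_of_isBlowUp hb fun x => by
    obtain ⟨U, hU, hxU, -⟩ := exists_isAffineOpen_mem_and_subset (U := ⊤) (x := x) trivial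
    exact ⟨⟨U, hU⟩, hxU, hI _⟩
  obtain ⟨S, hS, hSeq⟩ := isCompact_iff_finite_and_eq_biUnion_affineOpens.1
    (show IsCompact ((⊤ : X.Opens) : Set X) from isCompact_univ)
  haveI := hS.fintype
  choose k hk hkb hkr using fun A : S => BlowProj.exists_proj_chart hb A.1
  haveI := hk
  choose n₀ hn₀ using fun A : S => exists_preimages (k A) (hkb A) J hJ inferInstance (hI A.1) (hkr A)
  let n := Finset.univ.sup n₀
  let E := BlowUp.exceptional b I
  choose s hs hcov using fun A : S => hn₀ A n (Finset.le_sup (Finset.mem_univ A))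
  obtain ⟨K, hK, hKft, hKs⟩ := exists_ft_le_of_finset ((J * E ^ n).map b) Finset.univ (fun A : S => A.1) s hs
  have hKc : K.comap b = J * E ^ n := by
    refine le_antisymm ((Scheme.IdealSheafData.comap_mono b hK).trans (Scheme.IdealSheafData.comap_map_le _ b))
      fun B => ?_
    intro x hx
    refine H7Lim.mem_of_cover B.2 _ _ fun y hy => ?_
    obtain ⟨A, hyA⟩ : ∃ A : S, b y ∈ A.1.1 := by
      have h : b y ∈ (⨆ A ∈ S, (A.1 : X.Opens)) := hSeq.le trivial
      simpa [Opens.mem_iSup] using h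
    obtain ⟨O, e, hyO, hle⟩ := hcov A y hyA
    obtain ⟨r, hr, hyr⟩ := B.2.exists_basicOpen_le (V := O.1) ⟨y, hyO⟩ hy
    refine ⟨r, hyr, ?_⟩
    have key : (J * E ^ n).ideal ⟨_, B.2.basicOpen r⟩ ≤ (K.comap b).ideal ⟨_, B.2.basicOpen r⟩ := by
      rw [← Scheme.IdealSheafData.map_ideal (J * E ^ n) (U := ⟨_, B.2.basicOpen r⟩) (V := O) hr,
        ← Scheme.IdealSheafData.map_ideal (K.comap b) (U := ⟨_, B.2.basicOpen r⟩) (V := O) hr]
      refine Ideal.map_mono (hle.trans ?_)
      rw [H29Blow.ideal_comap K b A.1 O e]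
      exact Ideal.map_mono (Ideal.span_le.2 (hKs A (Finset.mem_univ A)))
    exact (Scheme.IdealSheafData.map_ideal (K.comap b) (U := ⟨_, B.2.basicOpen r⟩) (V := B) (X'.basicOpen_le r)).ge
      (key ((Scheme.IdealSheafData.map_ideal (J * E ^ n) (U := ⟨_, B.2.basicOpen r⟩) (V := B) (X'.basicOpen_le r)).le
        (Ideal.mem_map_of_mem _ hx)))
  have hE' : BlowUp.IsEffCartierIdeal (E.comap b') := H29Blow.isEffCartierIdeal_comap_blowUp hb' hb.1
  have hpow : ∀ {Y : Scheme.{u}} {D : Y.IdealSheafData}, BlowUp.IsEffCartierIdeal D → ∀ m : ℕ,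
      BlowUp.IsEffCartierIdeal (D ^ m) := fun {Y D} hD m => by
    induction m with
    | zero => rw [pow_zero, Scheme.IdealSheafData.one_eq_top]; exact H29Blow.isEffCartierIdeal_top
    | succ m ih => rw [pow_succ]; exact H29Blow.isEffCartierIdeal_mul ih hD
  refine ⟨I * K, isFiniteTypeIdeal_mul hI hKft, ?_, ?_, fun Y g hg => ?_⟩
  · have hsupp : (b ⁻¹' (K.support : Set X)) = ((J * E ^ n).support : Set X') := by
      rw [← hKc, Scheme.IdealSheafData.support_comap]; rfl
    rw [Scheme.IdealSheafData.support_mul, Closeds.coe_sup]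
    ext x
    have hEsupp : ∀ y : X', y ∈ (E.support : Set X') ↔ b y ∈ (I.support : Set X) := fun y => by
      rw [show (E.support : Set X') = b ⁻¹' (I.support : Set X) by
        rw [show E = I.comap b from rfl, Scheme.IdealSheafData.support_comap]; rfl]
      rfl
    have hpowsupp : ∀ m, ((E ^ m).support : Set X') ⊆ E.support := fun m => by
      induction m with
      | zero => simp [Scheme.IdealSheafData.one_eq_top]
      | succ m ih =>
        rw [pow_succ, Scheme.IdealSheafData.support_mul, Closeds.coe_sup]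
        exact Set.union_subset ih subset_rfl
    by_cases hxI : x ∈ (I.support : Set X)
    · simp only [Set.mem_union, hxI, true_or]
    simp only [Set.mem_union, hxI, false_or]
    let W : X.Opens := ⟨(I.support : Set X)ᶜ, I.support.2.isOpen_compl⟩
    haveI : IsIso (b ∣_ W) := H29Blow.isIso_morphismRestrict hb W fun z hz => hz
    obtain ⟨w, hw⟩ := (b ∣_ W).surjective ⟨x, hxI⟩
    have hbw : b ((b ⁻¹ᵁ W).ι w) = x := by
      rw [← Scheme.Hom.comp_apply, ← morphismRestrict_ι, Scheme.Hom.comp_apply, hw]; rfl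
    constructor
    · intro hx
      have h : (b ⁻¹ᵁ W).ι w ∈ ((J * E ^ n).support : Set X') := hsupp.le (show b _ ∈ _ from hbw.symm ▸ hx)
      rw [Scheme.IdealSheafData.support_mul, Closeds.coe_sup] at h
      rcases h with h | h
      · exact ⟨_, h, hbw⟩
      · exact absurd (hbw ▸ (hEsupp _).1 (hpowsupp n h)) hxI
    · rintro ⟨y, hy, rfl⟩
      refine hsupp.ge ?_
      rw [Scheme.IdealSheafData.support_mul, Closeds.coe_sup]
      exact Or.inl hy
  · rw [H29Blow.comap_mul, Scheme.IdealSheafData.comap_comp, Scheme.IdealSheafData.comap_comp, hKc,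
      H29Blow.comap_mul, comap_pow]
    exact H29Blow.isEffCartierIdeal_mul hE' (H29Blow.isEffCartierIdeal_mul hb'.1 (hpow hE' n))
  · have hg' := hg
    rw [H29Blow.comap_mul] at hg'
    obtain ⟨h, hh, hhu⟩ := hb.2 Y g (H29Blow.isEffCartierIdeal_left_of_mul hg')
    have hJY : BlowUp.IsEffCartierIdeal (J.comap h) := by
      have h1 := H29Blow.isEffCartierIdeal_right_of_mul hg'
      rw [← hh, Scheme.IdealSheafData.comap_comp, hKc, H29Blow.comap_mul] at h1
      exact H29Blow.isEffCartierIdeal_left_of_mul h1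
    obtain ⟨m, hm, hmu⟩ := hb'.2 Y h hJY
    refine ⟨m, by show m ≫ b' ≫ b = g; rw [← Category.assoc, hm, hh], fun m' hm' => hmu m' ?_⟩
    exact hhu (m' ≫ b') ((Category.assoc _ _ _).trans hm')

end Groth.Agent.H11Strict
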