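import Groth.Prelude.Def_BlowUp2
import Groth.Prelude.Def_FlatMod2
import Groth.Agent.H06Mod.StalkPullback
import Groth.Agent.H29Mero.Affine
import Mathlib

/-! No section of the pullback of a module which is flat along the centre is killed by a power of the
exceptional ideal. -/

set_option autoImplicit false
universe u

open CategoryTheory AlgebraicGeometry TopologicalSpace Opposite TensorProduct

namespace Groth.Agent.H11Strict

theorem flat_stalk_pullback {X Y : Scheme.{u}} (b : X ⟶ Y) (F : Y.Modules) (x : X)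
    (h : FlatMod.IsFlatAt F (b.base x)) :
    Module.Flat (X.presheaf.stalk x) (((Scheme.Modules.pullback b).obj F).presheaf.stalk x) := by
  haveI : Module.Flat (Y.presheaf.stalk (b.base x)) (F.presheaf.stalk (b.base x)) := h
  exact Module.Flat.of_linearEquiv (Groth.Agent.H06Mod.pullStalkEquiv b F x).symm

theorem eq_zero_of_killed {X : Scheme.{u}} (M : X.Modules) (E : X.IdealSheafData)
    (hE : BlowUp.IsEffCartierIdeal E) (hM : ∀ x ∈ E.support, FlatMod.IsFlatAt M x)
    (V : X.affineOpens) (m : Γ(M, V.1))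
    (h : BlowUp.KilledByPowerNear E M V m) : m = 0 := by
  obtain ⟨n, hn⟩ := h
  apply TopCat.Presheaf.section_ext (⟨M.presheaf, M.isSheaf⟩ : TopCat.Sheaf Ab X) V.1
  intro x hx
  show M.presheaf.germ V.1 x hx m = M.presheaf.germ V.1 x hx 0
  rw [map_zero]
  obtain ⟨U, hxU, f, hf, hI⟩ := hE x
  obtain ⟨g, g', hgg, hxg⟩ := exists_basicOpen_le_affine_inter U.2 V.2 x ⟨hxU, hx⟩
  have hWV : X.basicOpen g ≤ V.1 := hgg.trans_le (X.basicOpen_le g')
  have hWU : X.basicOpen g ≤ U.1 := X.basicOpen_le g
  let W : X.affineOpens := ⟨X.basicOpen g, U.2.basicOpen g⟩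
  let fW : Γ(X, W.1) := X.presheaf.map (homOfLE hWU).op f
  have hfW : fW ∈ nonZeroDivisors Γ(X, W.1) := by
    haveI := U.2.isLocalization_basicOpen g
    exact IsLocalization.map_nonZeroDivisors_le (Submonoid.powers g) _ (Submonoid.mem_map_of_mem _ hf)
  have hmem : fW ∈ E.ideal W := by
    rw [← show (E.ideal U).map (X.presheaf.map (homOfLE hWU).op).hom = E.ideal W from E.map_ideal' (U := W) (V := U) _, hI]
    exact Ideal.mem_map_of_mem _ (Ideal.mem_span_singleton_self f)
  have hfn : fW ^ n • M.presheaf.map (homOfLE hWV).op m = 0 := by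
    have hmem' : fW ^ n ∈ ((E ^ n).ideal V).map (X.presheaf.map (homOfLE hWV).op).hom := by
      rw [show ((E ^ n).ideal V).map (X.presheaf.map (homOfLE hWV).op).hom = (E ^ n).ideal W from (E ^ n).map_ideal' (U := W) (V := V) _, Scheme.IdealSheafData.ideal_pow, Pi.pow_apply]
      exact Ideal.pow_mem_pow hmem n
    let A : Ideal Γ(X, W.1) :=
      { carrier := {a | a • M.presheaf.map (homOfLE hWV).op m = 0}
        add_mem' := fun {a b} (ha : _ = _) (hb : _ = _) => show _ = _ by rw [add_smul, ha, hb, add_zero]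
        zero_mem' := zero_smul _ _
        smul_mem' := fun c a (ha : _ = _) => show _ = _ by rw [smul_eq_mul, mul_smul, ha, smul_zero] }
    refine (Ideal.map_le_iff_le_comap.mpr fun a ha => ?_ : _ ≤ A) hmem'
    show _ • M.presheaf.map (homOfLE hWV).op m = 0
    rw [← Scheme.Modules.map_smul, hn a ha, map_zero]
  have hgm : (X.presheaf.germ W.1 x hxg fW) ^ n • M.presheaf.germ V.1 x hx m = 0 := by
    rw [← map_pow, ← TopCat.Presheaf.germ_res_apply M.presheaf (homOfLE hWV) x hxg m,
      ← Groth.Agent.H06Mod.germ_smul, hfn, map_zero]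
  by_cases hu : IsUnit (X.presheaf.germ W.1 x hxg fW)
  · exact (IsUnit.smul_eq_zero (hu.pow n)).mp hgm
  · have hsup : x ∈ E.support := by
      have h1 : x ∈ X.zeroLocus (U := W.1) (E.ideal W : Set Γ(X, W.1)) ∩ (W.1 : Set X) := by
        refine ⟨?_, hxg⟩
        rw [Scheme.mem_zeroLocus_iff]
        intro a ha hxa
        have hIW : E.ideal W = Ideal.span {fW} := by
          rw [← show (E.ideal U).map (X.presheaf.map (homOfLE hWU).op).hom = E.ideal W from E.map_ideal' (U := W) (V := U) _, hI, Ideal.map_span, Set.image_singleton]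
        obtain ⟨c, rfl⟩ := Ideal.mem_span_singleton'.mp (hIW ▸ ha : a ∈ Ideal.span {fW})
        rw [Scheme.mem_basicOpen X (c * fW) x hxg, map_mul] at hxa
        exact hu (isUnit_of_mul_isUnit_right hxa)
      rw [← E.coe_support_inter W] at h1
      exact h1.1
    haveI : Module.Flat (X.presheaf.stalk x) (M.presheaf.stalk x) := hM x hsup
    exact (Module.Flat.isSMulRegular_of_nonZeroDivisors
      (pow_mem (Groth.Agent.H29Mero.germ_mem_nzd W.2 hfW hxg) n)) (hgm.trans (smul_zero _).symm)

theorem isStrictTransform_id {S S' : Scheme.{u}} (𝓘 : S.IdealSheafData) (b : S' ⟶ S)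
    (hb : BlowUp.IsEffCartierIdeal (𝓘.comap b))
    (F : S.Modules) (hflat : ∀ s : ↥S, s ∈ 𝓘.support → FlatMod.IsFlatAt F s) :
    BlowUp.IsStrictTransform b 𝓘 F ((Scheme.Modules.pullback b).obj F) (𝟙 _) := by
  refine ⟨inferInstance, fun V m => ⟨fun h => ?_, fun h => ?_⟩⟩
  · obtain rfl : m = 0 := by simpa using h
    exact ⟨0, fun a _ => smul_zero a⟩
  · rw [eq_zero_of_killed _ _ hb (fun x hx => flat_stalk_pullback b F x (hflat _ ?_)) V m h, map_zero]
    rw [Scheme.IdealSheafData.support_comap] at hx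
    exact hx

end Groth.Agent.H11Strict
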