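import Groth.Prelude.Def_BlowUp2
import Groth.Agent.H26Blow.Affine
import Groth.Agent.H29Blow.Basic
import Mathlib

/-! An injective extension in which the ideal becomes invertible and stays inside `A` is the blow-up. -/

set_option autoImplicit false
set_option linter.style.haveILetI false
universe u

open CategoryTheory CategoryTheory.Limits AlgebraicGeometry TopologicalSpace
open Groth.Agent.H26Blow

namespace Groth.Agent.H11Strict

variable {A : Type u} [CommRing A] (I : Ideal A) {B : Type u} [CommRing B] (α : A →+* B)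
  (hinj : Function.Injective α)
  (hIB : (Ideal.map α I : Set B) ⊆ α '' (I : Set A))

include hinj hIB in
theorem existsUnique_of_gen_ext {R : Type u} [CommRing R] (φ : A →+* R) (a : I) (hφ : Gen I φ a) :
    ∃! ψ : B →+* R, ψ.comp α = φ := by
  have hx : ∀ b : B, ∃ x : I, b * α (a : A) = α (x : A) := fun b => by
    obtain ⟨x, hx, hbx⟩ := hIB (Ideal.mul_mem_left _ b (Ideal.mem_map_of_mem α a.2))
    exact ⟨⟨x, hx⟩, hbx.symm⟩
  choose x hx using hx
  have ht : ∀ b : B, ∃ t : R, t * φ (a : A) = φ (x b : A) := fun b =>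
    Ideal.mem_span_singleton'.1 (hφ.2 _ (x b).2)
  choose t ht using ht
  have huniq : ∀ {ψ : B →+* R}, ψ.comp α = φ → ∀ b, ψ b = t b := fun {ψ} hψ b => by
    refine (mul_cancel_right_mem_nonZeroDivisors hφ.1).1 ?_
    rw [ht, ← RingHom.congr_fun hψ, ← RingHom.congr_fun hψ, RingHom.comp_apply, RingHom.comp_apply,
      ← map_mul, hx]
  have key : ∀ (b : B) (y : A), b * α (a : A) = α y → t b * φ (a : A) = φ y := fun b y h => by
    rw [ht, hinj ((hx b).symm.trans h)]
  let ψ : B →+* R :=
    { toFun := t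
      map_one' := (mul_cancel_right_mem_nonZeroDivisors hφ.1).1 (by rw [key 1 a (one_mul _), one_mul])
      map_zero' := (mul_cancel_right_mem_nonZeroDivisors hφ.1).1
        (by rw [key 0 0 (by rw [zero_mul, map_zero]), map_zero, zero_mul])
      map_mul' := fun b c => by
        have h1 : (x (b * c) : A) * (a : A) = (x b : A) * (x c : A) := hinj (by
          rw [map_mul, map_mul, ← hx, ← hx, ← hx]; ring)
        refine (mul_cancel_right_mem_nonZeroDivisors (mul_mem hφ.1 hφ.1)).1 ?_
        rw [← mul_assoc, ht, ← map_mul, h1, map_mul, ← ht, ← ht]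
        ring
      map_add' := fun b c => (mul_cancel_right_mem_nonZeroDivisors hφ.1).1 (by
        rw [key (b + c) (x b + x c) (by rw [add_mul, map_add, hx, hx]), map_add, add_mul, ht, ht]) }
  refine ⟨ψ, RingHom.ext fun r => ?_, fun ψ' hψ' => RingHom.ext fun b => huniq hψ' b⟩
  refine (mul_cancel_right_mem_nonZeroDivisors hφ.1).1 ?_
  show t (α r) * φ (a : A) = φ r * φ (a : A)
  rw [key (α r) (r * a) (map_mul α _ _).symm, map_mul]

include hinj hIB in
theorem isBlowUp_Spec' (heff : BlowUp.IsEffCartierIdeal ((centre I).comap (Spec.map (CommRingCat.ofHom α)))) :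
    BlowUp.IsBlowUp (Spec.map (CommRingCat.ofHom α)) (centre I) := by
  refine ⟨heff, fun Y g hg => ?_⟩
  choose R k hk φ a hmem hcomm hgen using exists_gen_chart I g hg
  let 𝒰 : Y.OpenCover :=
    { I₀ := Y
      X := fun y => Spec (R y)
      f := k
      mem₀ := by
        rw [Scheme.presieve₀_mem_precoverage_iff]
        exact ⟨fun y => ⟨y, hmem y⟩, hk⟩ }
  choose ψ hψ huniq using fun y => existsUnique_of_gen_ext I α hinj hIB (φ y).hom (a y) (hgen y)
  let h : ∀ y, Spec (R y) ⟶ Spec (CommRingCat.of B) := fun y => Spec.map (CommRingCat.ofHom (ψ y))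
  have hh : ∀ y, h y ≫ Spec.map (CommRingCat.ofHom α) = k y ≫ g := fun y => by
    rw [← Spec.map_comp, hcomm, ← CommRingCat.ofHom_comp, hψ]
    rfl
  have hext : ∀ {T : Scheme.{u}} (h₁ h₂ : T ⟶ Spec (CommRingCat.of B)) (g' : T ⟶ Spec (CommRingCat.of A)),
      BlowUp.IsEffCartierIdeal ((centre I).comap g') → h₁ ≫ Spec.map (CommRingCat.ofHom α) = g' →
        h₂ ≫ Spec.map (CommRingCat.ofHom α) = g' → h₁ = h₂ := by
    intro T h₁ h₂ g' hg' e₁ e₂
    choose R k hk φ a hmem hcomm hgen using exists_gen_chart I g' hg'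
    let 𝒱 : T.OpenCover :=
      { I₀ := T
        X := fun y => Spec (R y)
        f := k
        mem₀ := by
          rw [Scheme.presieve₀_mem_precoverage_iff]
          exact ⟨fun y => ⟨y, hmem y⟩, hk⟩ }
    refine 𝒱.hom_ext _ _ fun y => ?_
    obtain ⟨ψ, -, hu⟩ := existsUnique_of_gen_ext I α hinj hIB (φ y).hom (a y) (hgen y)
    show k y ≫ h₁ = k y ≫ h₂
    have hl : ∀ {l : T ⟶ Spec (CommRingCat.of B)}, l ≫ Spec.map (CommRingCat.ofHom α) = g' →
        (Spec.preimage (k y ≫ l)).hom = ψ := fun {l} hl => by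
      refine hu _ ?_
      have h' : CommRingCat.ofHom α ≫ Spec.preimage (k y ≫ l) = φ y := Spec.map_injective (by
        rw [Spec.map_comp, Spec.map_preimage, Category.assoc, hl, hcomm])
      exact congrArg CommRingCat.Hom.hom h'
    rw [← Spec.map_preimage (k y ≫ h₁), ← Spec.map_preimage (k y ≫ h₂)]
    congr 1
    exact CommRingCat.hom_ext ((hl e₁).trans (hl e₂).symm)
  have hcompat : ∀ y z, pullback.fst (k y) (k z) ≫ h y = pullback.snd (k y) (k z) ≫ h z := fun y z => by
    haveI := hk y
    haveI := hk z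
    refine hext _ _ (pullback.fst (k y) (k z) ≫ k y ≫ g) ?_ (by rw [Category.assoc, hh]) ?_
    · rw [← Category.assoc, Scheme.IdealSheafData.comap_comp]
      exact H29Blow.isEffCartierIdeal_comap_of_flat hg _
    · rw [Category.assoc, hh, pullback.condition_assoc]
  let H := 𝒰.glueMorphisms h hcompat
  have hH : H ≫ Spec.map (CommRingCat.ofHom α) = g := 𝒰.hom_ext _ _ fun y => by
    rw [← Category.assoc, 𝒰.ι_glueMorphisms]; exact hh y
  exact ⟨H, hH, fun H' hH' => hext _ _ g hg hH' hH⟩

end Groth.Agent.H11Strict
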