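import Groth.Prelude.Def_BlowUp2
import Groth.Agent.H10Coh.QCohOps
import Groth.Agent.H10Coh.Serre
import Groth.Agent.H10Coh.FinType2
import Groth.Agent.H11Tilde.QCohCrit
import Groth.Agent.H11Tilde.ModLoc
import Groth.Agent.H29Blow.Basic
import Groth.Agent.H29Blow.QCohExt
import Groth.Agent.H29Blow.QCohLoc
import Mathlib

/-! Strict transforms along locally principal ideals are quasi-coherent (adapted from
`H7Flat.Flatten.Glue`, with a small import closure). -/

set_option autoImplicit false
set_option linter.style.haveILetI false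
set_option backward.isDefEq.respectTransparency false

universe u

open AlgebraicGeometry CategoryTheory Limits TopologicalSpace Opposite

namespace Groth.Agent.H11Strict

/-- An ideal sheaf which is locally principal. -/
def LocPrincipal {X : Scheme.{u}} (E : X.IdealSheafData) : Prop :=
  ∀ x : X, ∃ U : X.affineOpens, x ∈ U.1 ∧ ∃ f : Γ(X, U.1), E.ideal U = Ideal.span {f}

theorem locPrincipal_comap {X Y : Scheme.{u}} (g : Y ⟶ X) {E : X.IdealSheafData}
    (hE : BlowUp.IsEffCartierIdeal E) : LocPrincipal (E.comap g) := fun y => by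
  obtain ⟨U, hy, t, -, ht⟩ := hE (g y)
  obtain ⟨_, ⟨V, hV, rfl⟩, hyV, hVU⟩ :=
    Y.isBasis_affineOpens.exists_subset_of_mem_open hy (g ⁻¹ᵁ U.1).isOpen
  refine ⟨⟨V, hV⟩, hyV, g.appLE U.1 V hVU t, ?_⟩
  rw [H29Blow.ideal_comap E g U ⟨V, hV⟩ hVU, ht, Ideal.map_span, Set.image_singleton]

/-- The kernel of a strict transform map is quasi-coherent. -/
theorem isQuasicoherent_kernel {X : Scheme.{u}} {M G : X.Modules} [M.IsQuasicoherent] (E : X.IdealSheafData)
    (hE : LocPrincipal E) (π : M ⟶ G) [Epi π]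
    (hπ : ∀ (V : X.affineOpens) (m : Γ(M, V.1)), π.app V.1 m = 0 ↔ BlowUp.KilledByPowerNear E M V m) :
    (kernel π).IsQuasicoherent := by
  choose U hxU f hI using hE
  have hι : ∀ (W : X.Opens), Function.Injective ((kernel.ι π).app W) := fun W =>
    H10Coh.injective_app_of_mono' _ W
  have hlift : ∀ (V : X.affineOpens) (m : Γ(M, V.1)), π.app V.1 m = 0 →
      ∃ k : Γ(kernel π, V.1), (kernel.ι π).app V.1 k = m := fun V m hm =>
    H10Coh.exists_app_eq_of_exact (H10Coh.shortExact_kernel π) V.1 m hm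
  refine H11Tilde.isQuasicoherent_of_basicOpen_localization _ (fun x => (U x).1) ?_
    (fun x => (U x).2) ?_ ?_
  · rw [TopologicalSpace.IsOpenCover, eq_top_iff]
    exact fun x _ => TopologicalSpace.Opens.mem_iSup.2 ⟨x, hxU x⟩
  · intro x r s hs
    obtain ⟨n, hn⟩ := _root_.H29Blow.exists_pow_smul_eq_zero M inferInstance (U x).2 r ((kernel.ι π).app _ s)
      (by rw [← H11Tilde.app_map_apply, hs, map_zero])
    exact ⟨n, hι _ (((kernel.ι π).app_smul _ _).trans (hn.trans (map_zero ((kernel.ι π).app _).hom).symm))⟩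
  · intro x r s'
    obtain ⟨n, t, ht⟩ := _root_.H29Blow.exists_pow_smul_eq_res M inferInstance (U x).2 r ((kernel.ι π).app _ s')
    let W : X.affineOpens := ⟨X.basicOpen r, (U x).2.basicOpen r⟩
    obtain ⟨m, hm⟩ := (hπ W _).1 (show π.app _ ((kernel.ι π).app _ s') = 0 by
      rw [← ConcreteCategory.comp_apply, ← Scheme.Modules.Hom.comp_app, kernel.condition]; rfl)
    let ρ := X.presheaf.map (homOfLE (X.basicOpen_le r)).op
    have hfm : ρ (f x ^ m) ∈ (E ^ m).ideal W := by
      rw [← show ((E ^ m).ideal (U x)).map ρ.hom = (E ^ m).ideal W from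
        (E ^ m).map_ideal' (U := W) (V := U x) _]
      refine Ideal.mem_map_of_mem _ ?_
      rw [Scheme.IdealSheafData.ideal_pow, Pi.pow_apply, hI]
      exact Ideal.pow_mem_pow (Ideal.mem_span_singleton_self _) m
    obtain ⟨l, hl⟩ := _root_.H29Blow.exists_pow_smul_eq_zero M inferInstance (U x).2 r (f x ^ m • t) (by
      rw [Scheme.Modules.map_smul, ht, smul_smul, mul_comm, mul_smul]
      exact (congrArg (_ • ·) (hm _ hfm)).trans (smul_zero _))
    obtain ⟨k, hk⟩ := hlift (U x) (r ^ l • t) ((hπ _ _).2 ⟨m, fun a ha => by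
      rw [Scheme.IdealSheafData.ideal_pow, Pi.pow_apply, hI, Ideal.span_singleton_pow,
        Ideal.mem_span_singleton'] at ha
      obtain ⟨c, rfl⟩ := ha
      rw [mul_smul, smul_comm (f x ^ m), hl, smul_zero]⟩)
    refine ⟨n + l, k, hι _ ?_⟩
    rw [H11Tilde.app_map_apply, hk, Scheme.Modules.Hom.app_smul, Scheme.Modules.map_smul, ht,
      smul_smul, ← map_mul, ← pow_add, add_comm]

/-- Strict transforms along locally principal ideals are quasi-coherent. -/
theorem isQuasicoherent_of_kills {X : Scheme.{u}} {M G : X.Modules} [M.IsQuasicoherent] (E : X.IdealSheafData)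
    (hE : LocPrincipal E) (π : M ⟶ G) [Epi π]
    (hπ : ∀ (V : X.affineOpens) (m : Γ(M, V.1)), π.app V.1 m = 0 ↔ BlowUp.KilledByPowerNear E M V m) :
    G.IsQuasicoherent := by
  haveI := isQuasicoherent_kernel E hE π hπ
  haveI := H10Coh.isQuasicoherent_cokernel (kernel.ι π)
  exact H10Coh.isQuasicoherent_of_iso (M := cokernel (kernel.ι π))
    (IsColimit.coconePointUniqueUpToIso (cokernelIsCokernel (kernel.ι π))
      (Abelian.epiIsCokernelOfKernel (KernelFork.ofι (kernel.ι π) (kernel.condition π)) (kernelIsKernel π)))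

end Groth.Agent.H11Strict
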