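import Groth.Prelude.Def_BlowUp2
import Groth.Agent.H7Flat.PushoutCartesian
import Groth.Agent.H7Flat.AdaptedPairs
import Groth.Agent.H26Blow.Exists
import Groth.Agent.H11Strict.BlowLocal
import Groth.Agent.H11Strict.FreeExt
import Groth.Agent.H11Strict.FreeExt2
import Groth.Agent.H11Strict.BirFinite
import Mathlib

/-! A pinching along an effective Cartier divisor is recovered by blowing up. -/

set_option autoImplicit false
set_option linter.style.haveILetI false
set_option backward.isDefEq.respectTransparency false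
universe u

open CategoryTheory CategoryTheory.Limits AlgebraicGeometry TopologicalSpace
open Groth.Agent.H7Flat Groth.Agent.H26Blow

namespace Groth.Agent.H11Strict

theorem centre_comap {A B : Type u} [CommRing A] [CommRing B] (I : Ideal A) (φ : A →+* B) :
    (centre I).comap (Spec.map (CommRingCat.ofHom φ)) = centre (I.map φ) := by
  refine Scheme.IdealSheafData.ext_of_isAffine ?_
  exact (ideal_centre_comap I (CommRingCat.ofHom φ)).trans (ideal_centre_top (I.map φ)).symm

theorem ker_specMap {A B : Type u} [CommRing A] [CommRing B] (φ : A →+* B) :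
    (Spec.map (CommRingCat.ofHom φ)).ker = centre (RingHom.ker φ) := by
  rw [Scheme.ker_of_isAffine]
  show _ = Scheme.IdealSheafData.ofIdealTop _
  congr 1
  have e : (Scheme.ΓSpecIso (CommRingCat.of A)).inv ≫ (Spec.map (CommRingCat.ofHom φ)).appTop =
      CommRingCat.ofHom φ ≫ (Scheme.ΓSpecIso (CommRingCat.of B)).inv :=
    (Scheme.ΓSpecIso_inv_naturality _).symm
  have hB := ConcreteCategory.bijective_of_isIso (Scheme.ΓSpecIso (CommRingCat.of B)).inv
  have hA := ConcreteCategory.bijective_of_isIso (Scheme.ΓSpecIso (CommRingCat.of A)).inv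
  ext x
  rw [Ideal.mem_map_iff_of_surjective _ hA.2, RingHom.mem_ker]
  constructor
  · intro hx
    obtain ⟨y, rfl⟩ := hA.2 x
    refine ⟨y, ?_, rfl⟩
    exact hB.1 ((congr($e y)).symm.trans (hx.trans (map_zero _).symm))
  · rintro ⟨y, hy, rfl⟩
    refine (congr($e y)).trans ?_
    show (Scheme.ΓSpecIso (CommRingCat.of B)).inv.hom (φ y) = 0
    rw [RingHom.mem_ker.mp hy, map_zero]

theorem app_injective_of_flat_surjective {X Y : Scheme.{u}} (f : X ⟶ Y) [Flat f] [Surjective f]
    (V : Y.Opens) : Function.Injective (f.app V).hom := by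
  rw [injective_iff_map_eq_zero]
  intro c hc
  refine TopCat.Presheaf.section_ext Y.sheaf V c 0 fun y hy => ?_
  show Y.presheaf.germ V y hy c = Y.presheaf.germ V y hy 0
  rw [map_zero]
  obtain ⟨x, rfl⟩ := f.surjective y
  have hflat : (f.stalkMap x).hom.Flat := Flat.stalkMap f x
  algebraize [(f.stalkMap x).hom]
  haveI : IsLocalHom (algebraMap (Y.presheaf.stalk (f x)) (X.presheaf.stalk x)) :=
    inferInstanceAs (IsLocalHom (f.stalkMap x).hom)
  haveI : Module.Flat (Y.presheaf.stalk (f x)) (X.presheaf.stalk x) := hflat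
  haveI := Module.FaithfullyFlat.of_flat_of_isLocalHom (A := Y.presheaf.stalk (f x)) (B := X.presheaf.stalk x)
  refine FaithfulSMul.algebraMap_injective (Y.presheaf.stalk (f x)) (X.presheaf.stalk x) ?_
  show f.stalkMap x _ = f.stalkMap x 0
  rw [Scheme.Hom.germ_stalkMap_apply, map_zero]
  erw [hc]
  rw [map_zero]

theorem isBlowUp_restrict_of_chart {X X' C C' : Scheme.{u}} {b : X' ⟶ X} {J : X.IdealSheafData}
    (c : C ⟶ X) [IsOpenImmersion c] (k : C' ⟶ X') (q : C' ⟶ C) (hp : IsPullback q k c b)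
    (h : BlowUp.IsBlowUp q (J.comap c)) :
    BlowUp.IsBlowUp (b ∣_ c.opensRange) (J.comap c.opensRange.ι) := by
  let i := c.isoOpensRange
  have hi : i.hom ≫ c.opensRange.ι = c := Scheme.Hom.isoOpensRange_hom_ι c
  have hi' : i.inv ≫ c = c.opensRange.ι := (Iso.inv_comp_eq i).mpr hi.symm
  have hp' : IsPullback ((b ∣_ c.opensRange) ≫ i.inv) (b ⁻¹ᵁ c.opensRange).ι c b :=
    (isPullback_morphismRestrict b c.opensRange).of_iso (Iso.refl _) i.symm (Iso.refl _) (Iso.refl _)
      (by simp) (by simp) (by simp [hi']) (by simp)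
  let φ := hp'.isoIsPullback _ _ hp
  have hφ : φ.hom ≫ q ≫ i.hom = b ∣_ c.opensRange := by
    rw [← Category.assoc, hp'.isoIsPullback_hom_fst _ _ hp, Category.assoc, Iso.inv_hom_id, Category.comp_id]
  have h2 : BlowUp.IsBlowUp (q ≫ i.hom) (J.comap c.opensRange.ι) := by
    have := isBlowUp_comp_iso h i.symm
    rw [← Scheme.IdealSheafData.comap_comp, Iso.symm_hom, hi'] at this
    exact this
  rw [← hφ]
  refine isBlowUp_iso_comp h2 φ ?_
  rw [Scheme.IdealSheafData.comap_comp]
  exact H29Blow.isEffCartierIdeal_comap_of_flat h2.1 _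

variable {Xt Dt D : Scheme.{u}} {ι : Dt ⟶ Xt} {h : Dt ⟶ D} [IsClosedImmersion ι]

theorem ker_app_eq (π : AP ι h) : RingHom.ker π.p = ι.ker.ideal ⟨π.U, π.hU⟩ := by
  rw [Scheme.Hom.ker_apply, AP.p, Scheme.Hom.appLE_eq_app]

theorem injective_q [Flat h] [Surjective h] (π : AP ι h) : Function.Injective π.q := by
  rw [AP.q, Scheme.Hom.appLE, CommRingCat.hom_comp, RingHom.coe_comp]
  refine Function.Injective.comp ?_ (app_injective_of_flat_surjective h π.V)
  rw [show (homOfLE π.W_le).op = (eqToHom π.hUV).op from rfl]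
  exact (ConcreteCategory.bijective_of_isIso _).1

theorem injective_pa [Flat h] [Surjective h] (π : AP ι h) : Function.Injective π.pa := by
  rw [injective_iff_map_eq_zero]
  intro z hz
  refine π.ringSq.ext z 0 (by rw [hz, map_zero]) ?_
  rw [map_zero]
  refine (injective_iff_map_eq_zero _).mp (injective_q π) _ ?_
  rw [← π.ringSq.comm, hz, map_zero]

theorem image_ker_pb (π : AP ι h) :
    π.pa '' (RingHom.ker π.pb : Set π.R) = (RingHom.ker π.p : Set Γ(Xt, π.U)) := by
  ext x
  constructor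
  · rintro ⟨z, hz, rfl⟩
    show π.p (π.pa z) = 0
    rw [π.ringSq.comm, show π.pb z = 0 from hz, map_zero]
  · intro hx
    obtain ⟨z, hz1, hz2⟩ := π.ringSq.exists_lift x 0 (by rw [show π.p x = 0 from hx, map_zero])
    exact ⟨z, hz2, hz1⟩

theorem map_ker_pb (π : AP ι h) : (RingHom.ker π.pb).map π.pa = RingHom.ker π.p := by
  refine le_antisymm (Ideal.span_le.mpr (image_ker_pb π).le) fun x hx => ?_
  obtain ⟨z, hz, rfl⟩ := (image_ker_pb π).ge hx
  exact Ideal.mem_map_of_mem _ hz

variable (hcov : ∀ y : D, ∃ π : AP ι h, y ∈ π.V)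

theorem isBlowUp_inX [Flat h] [Surjective h] (hι : BlowUp.IsEffCartierIdeal ι.ker)
    {X : Scheme.{u}} (e : glued ι h ≅ X) :
    BlowUp.IsBlowUp (inX hcov ≫ e.hom) (inY hcov ≫ e.hom).ker := by
  haveI := inY_isClosedImmersion hcov
  let W : AP ι h → X.Opens := fun π => (chart ι h π ≫ e.hom).opensRange
  refine isBlowUp_of_cover W ?_ fun π => ?_
  · rw [IsOpenCover, eq_top_iff]
    intro x _
    obtain ⟨π, r, hr⟩ := chart_jointly_surjective ι h (e.inv x)
    refine Opens.mem_iSup.mpr ⟨π, r, ?_⟩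
    rw [Scheme.Hom.comp_apply, hr, ← Scheme.Hom.comp_apply, e.inv_hom_id]
    rfl
  have hkey : ∀ {S : Scheme.{u}} (g : S ⟶ glued ι h) (V : (glued ι h).Opens),
      (g ≫ e.hom) ⁻¹ᵁ (e.hom ''ᵁ V) = g ⁻¹ᵁ V := fun g V => by
    rw [Scheme.Hom.comp_preimage, Scheme.Hom.preimage_image_eq]
  have hr : W π = e.hom ''ᵁ (chart ι h π).opensRange := Scheme.Hom.opensRange_comp _ _
  have hpa : IsPullback (sm π.pa) π.hU.fromSpec (chart ι h π ≫ e.hom) (inX hcov ≫ e.hom) :=
    IsOpenImmersion.isPullback _ _ _ _ (by rw [← Category.assoc, ← Category.assoc, fromSpec_inX])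
      (by rw [show (chart ι h π ≫ e.hom).opensRange = W π from rfl, hr, hkey, inX_preimage])
  have hpb : IsPullback (sm π.pb) π.hV.fromSpec (chart ι h π ≫ e.hom) (inY hcov ≫ e.hom) :=
    IsOpenImmersion.isPullback _ _ _ _ (by rw [← Category.assoc, ← Category.assoc, fromSpec_inY])
      (by rw [show (chart ι h π ≫ e.hom).opensRange = W π from rfl, hr, hkey, inY_preimage])
  have hJ : (inY hcov ≫ e.hom).ker.comap (chart ι h π ≫ e.hom) = centre (RingHom.ker π.pb) := by
    rw [← Scheme.IdealSheafData.ker_fst_of_isClosedImmersion, ← ker_specMap]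
    change _ = (sm π.pb).ker
    rw [← hpb.isoPullback_hom_fst]
    exact (Scheme.Hom.ker_comp_of_isIso _ _).symm
  refine isBlowUp_restrict_of_chart (chart ι h π ≫ e.hom) _ _ hpa ?_
  rw [hJ]
  refine isBlowUp_Spec' (RingHom.ker π.pb) π.pa (injective_pa π) ?_ ?_
  · rw [map_ker_pb, image_ker_pb]
  · rw [centre_comap, map_ker_pb, ker_app_eq, ← comap_fromSpec_eq_centre ι.ker π.hU]
    exact H29Blow.isEffCartierIdeal_comap_of_flat hι _

theorem comap_inY_ker {X : Scheme.{u}} (e : glued ι h ≅ X) :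
    (inY hcov ≫ e.hom).ker.comap (inX hcov ≫ e.hom) = ι.ker := by
  haveI := inY_isClosedImmersion hcov
  have hp : IsPullback ι h (inX hcov ≫ e.hom) (inY hcov ≫ e.hom) :=
    (glued_isPullback hcov).of_iso (Iso.refl _) (Iso.refl _) (Iso.refl _) e (by simp) (by simp) (by simp) (by simp)
  rw [← Scheme.IdealSheafData.ker_fst_of_isClosedImmersion]
  conv_rhs => rw [← hp.isoPullback_hom_fst]
  exact (Scheme.Hom.ker_comp_of_isIso _ _).symm

end Groth.Agent.H11Strict
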