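import Groth.Agent.H11Strict.PinchBlow
import Groth.Agent.H29Blow.Relative

/-! Powers of the ideal of the pinched subscheme of a pinching are flat over the base. -/

set_option autoImplicit false
set_option linter.style.haveILetI false
set_option backward.isDefEq.respectTransparency false
universe u

open CategoryTheory CategoryTheory.Limits AlgebraicGeometry TopologicalSpace
open Groth.Agent.H7Flat Groth.Agent.H26Blow

namespace Groth.Agent.H11Strict

theorem image_pow_eq {R B : Type u} [CommRing R] [CommRing B] (pa : R →+* B) (K : Ideal R) (J : Ideal B)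
    (hKJ : pa '' (K : Set R) = J) : ∀ n : ℕ, 1 ≤ n → pa '' ((K ^ n : Ideal R) : Set R) = ((J ^ n : Ideal B) : Set B) := by
  have hmap : K.map pa ≤ J := Ideal.map_le_iff_le_comap.mpr fun x hx => hKJ.le ⟨x, hx, rfl⟩
  intro n hn
  refine Set.Subset.antisymm ?_ ?_
  · rintro _ ⟨x, hx, rfl⟩
    exact Ideal.pow_right_mono hmap n (by rw [← Ideal.map_pow]; exact Ideal.mem_map_of_mem _ hx)
  · induction n, hn using Nat.le_induction with
    | base => simp [hKJ]
    | succ m hm ih =>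
      intro b hb
      rw [SetLike.mem_coe, pow_succ] at hb
      refine Submodule.mul_induction_on hb (fun x hx y hy => ?_) fun x y hx hy => ?_
      · obtain ⟨x, hx', rfl⟩ := ih hx
        obtain ⟨y, hy', rfl⟩ := hKJ.ge hy
        exact ⟨x * y, by rw [pow_succ]; exact Ideal.mul_mem_mul hx' hy', map_mul _ _ _⟩
      · obtain ⟨x, hx', rfl⟩ := hx
        obtain ⟨y, hy', rfl⟩ := hy
        exact ⟨x + y, Ideal.add_mem _ hx' hy', map_add _ _ _⟩

theorem flat_pinch_pow {A R B C : Type u} [CommRing A] [CommRing R] [CommRing B] [CommRing C]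
    (ρ : A →+* R) (pa : R →+* B) (pb : R →+* C) (hpa : Function.Injective pa)
    (hpb : Function.Surjective pb) (J : Ideal B) (hKJ : pa '' (RingHom.ker pb : Set R) = J)
    (hC : (pb.comp ρ).Flat) (hJ : ∀ m : ℕ, 1 ≤ m → ((Ideal.Quotient.mk (J ^ m)).comp (pa.comp ρ)).Flat) :
    ∀ n : ℕ, 1 ≤ n → ((Ideal.Quotient.mk (RingHom.ker pb ^ n)).comp ρ).Flat := by
  algebraize [ρ, pa, pa.comp ρ, pb, pb.comp ρ]
  haveI : Module.Flat A C := hC
  have himg := image_pow_eq pa (RingHom.ker pb) J hKJ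
  have hiff : ∀ m, 1 ≤ m → ∀ x, pa x ∈ J ^ m → x ∈ RingHom.ker pb ^ m := fun m hm x hx => by
    obtain ⟨y, hy, hyx⟩ := (himg m hm).ge hx
    rwa [← hpa hyx]
  intro n hn
  change Module.Flat A (R ⧸ RingHom.ker pb ^ n)
  induction n, hn using Nat.le_induction with
  | base =>
    rw [pow_one]
    exact Module.Flat.of_linearEquiv
      (Ideal.quotientKerAlgEquivOfSurjective (f := IsScalarTower.toAlgHom A R C) hpb).toLinearEquiv
  | succ m hm ih =>
    haveI : Module.Flat A (B ⧸ J ^ m) := hJ m hm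
    haveI : Module.Flat A (B ⧸ J ^ (m + 1)) := hJ (m + 1) (by omega)
    haveI : Module.Flat A (R ⧸ RingHom.ker pb ^ m) := ih
    let K := RingHom.ker pb
    let fR : (R ⧸ K ^ (m + 1)) →ₗ[A] (R ⧸ K ^ m) :=
      (Submodule.factor (Ideal.pow_le_pow_right m.le_succ)).restrictScalars A
    let fB : (B ⧸ J ^ (m + 1)) →ₗ[A] (B ⧸ J ^ m) :=
      (Submodule.factor (Ideal.pow_le_pow_right m.le_succ)).restrictScalars A
    haveI : Module.Flat A (LinearMap.ker fB) := by
      refine H8Props.flat_of_exact (LinearMap.ker fB).subtype fB Subtype.val_injective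
        (LinearMap.exact_subtype_ker_map fB) fun x => ?_
      obtain ⟨x, rfl⟩ := Submodule.Quotient.mk_surjective _ x
      exact ⟨Submodule.Quotient.mk x, rfl⟩
    let θ : (R ⧸ K ^ (m + 1)) →ₗ[A] (B ⧸ J ^ (m + 1)) :=
      (Ideal.quotientMapₐ (J ^ (m + 1)) (IsScalarTower.toAlgHom A R B) (fun x hx =>
        (himg (m + 1) (by omega)).le ⟨x, hx, rfl⟩)).toLinearMap
    have hθ : Function.Injective θ := by
      rw [injective_iff_map_eq_zero]
      intro x hx
      obtain ⟨x, rfl⟩ := Submodule.Quotient.mk_surjective _ x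
      exact (Submodule.Quotient.mk_eq_zero _).mpr
        (hiff _ (by omega) x ((Submodule.Quotient.mk_eq_zero _).mp hx))
    have hmaps : ∀ x ∈ LinearMap.ker fR, θ x ∈ LinearMap.ker fB := fun x hx => by
      obtain ⟨x, rfl⟩ := Submodule.Quotient.mk_surjective _ x
      exact (Submodule.Quotient.mk_eq_zero _).mpr
        ((himg m hm).le ⟨x, (Submodule.Quotient.mk_eq_zero _).mp hx, rfl⟩)
    haveI : Module.Flat A (LinearMap.ker fR) := by
      refine Module.Flat.of_linearEquiv (LinearEquiv.ofBijective (θ.restrict hmaps) ⟨?_, ?_⟩)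
      · exact fun x y h => Subtype.ext (hθ (congrArg Subtype.val h))
      · rintro ⟨y, hy⟩
        obtain ⟨y, rfl⟩ := Submodule.Quotient.mk_surjective _ y
        obtain ⟨z, hz, hzy⟩ := (himg m hm).ge ((Submodule.Quotient.mk_eq_zero _).mp hy)
        exact ⟨⟨Submodule.Quotient.mk z, (Submodule.Quotient.mk_eq_zero _).mpr hz⟩,
          Subtype.ext (congrArg Submodule.Quotient.mk hzy)⟩
    refine H29Blow.flat_mid_of_exact (LinearMap.ker fR).subtype fR Subtype.val_injective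
      (LinearMap.exact_subtype_ker_map fR) fun x => ?_
    obtain ⟨x, rfl⟩ := Submodule.Quotient.mk_surjective _ x
    exact ⟨Submodule.Quotient.mk x, rfl⟩

theorem appLE_congr_hom {X Y : Scheme.{u}} {f g : X ⟶ Y} (h : f = g) (V : Y.Opens) (U : X.Opens)
    (e : U ≤ f ⁻¹ᵁ V) : f.appLE V U e = g.appLE V U (h ▸ e) := by subst h; rfl

theorem appLE_eq_of_fromSpec_comp {R : Type u} [CommRing R] {Y X : Scheme.{u}} (f : Y ⟶ X) {U : Y.Opens}
    (hU : IsAffineOpen U) (c : Spec (CommRingCat.of R) ⟶ X) (a : R →+* Γ(Y, U))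
    (h : hU.fromSpec ≫ f = sm a ≫ c) (V : X.Opens) (e : U ≤ f ⁻¹ᵁ V) (e' : ⊤ ≤ c ⁻¹ᵁ V) :
    f.appLE V U e =
      c.appLE V ⊤ e' ≫ (Scheme.ΓSpecIso (CommRingCat.of R)).hom ≫ CommRingCat.ofHom a := by
  have h1 : hU.fromSpec.appLE U ⊤ (fun x _ => hU.range_fromSpec.le ⟨x, rfl⟩) =
      (Scheme.ΓSpecIso Γ(Y, U)).inv := by
    rw [Scheme.Hom.appLE, hU.fromSpec_app_self, Category.assoc, ← Functor.map_comp]
    convert Category.comp_id _
    exact (Spec Γ(Y, U)).presheaf.map_id _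
  rw [← cancel_mono (Scheme.ΓSpecIso Γ(Y, U)).inv, ← h1, Category.assoc, Category.assoc,
    Scheme.Hom.appLE_comp_appLE, appLE_congr_hom h, ← Scheme.Hom.appLE_comp_appLE _ c V ⊤ ⊤ e' le_top, h1]
  congr 1
  rw [Scheme.ΓSpecIso_inv_naturality, Iso.hom_inv_id_assoc, Scheme.Hom.appTop, Scheme.Hom.app_eq_appLE]
  rfl

variable {Xt Dt D : Scheme.{u}} {ι : Dt ⟶ Xt} {h : Dt ⟶ D} [IsClosedImmersion ι]

theorem flat_pow_subscheme {S : Scheme.{u}} (f : Xt ⟶ S) {J : Xt.IdealSheafData}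
    (hJ : BlowUp.IsEffCartierIdeal J) [Flat (J.subschemeι ≫ f)] :
    ∀ n : ℕ, 1 ≤ n → BlowUp.IsEffCartierIdeal (J ^ n) ∧ Flat ((J ^ n).subschemeι ≫ f) := by
  intro n hn
  induction n, hn using Nat.le_induction with
  | base => rw [pow_one]; exact ⟨hJ, inferInstance⟩
  | succ m hm ih =>
    haveI := ih.2
    rw [pow_succ]
    exact ⟨H29Blow.isEffCartierIdeal_mul ih.1 hJ, H29Blow.flat_mul f ih.1 hJ⟩

theorem flat_pow_inY [Flat h] [Surjective h] (hι : BlowUp.IsEffCartierIdeal ι.ker)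
    (hcov : ∀ y : D, ∃ π : AP ι h, y ∈ π.V) {X S : Scheme.{u}} (e : glued ι h ≅ X) (sX : X ⟶ S)
    [Flat ((inX hcov ≫ e.hom) ≫ sX)] [Flat ((inY hcov ≫ e.hom) ≫ sX)]
    [Flat (ι ≫ (inX hcov ≫ e.hom) ≫ sX)] (n : ℕ) (hn : 1 ≤ n) :
    Flat (((inY hcov ≫ e.hom).ker ^ n).subschemeι ≫ sX) := by
  haveI := inY_isClosedImmersion hcov
  haveI : Flat (ι.ker.subschemeι ≫ (inX hcov ≫ e.hom) ≫ sX) := by
    rw [← MorphismProperty.cancel_left_of_respectsIso @Flat ι.toImage, Scheme.Hom.toImage_imageι_assoc]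
    infer_instance
  rw [H29Blow.flat_subscheme_iff]
  intro x _
  obtain ⟨U, V', hxV', e'⟩ := H29Blow.exists_affine_le sX x
  obtain ⟨π₁, r, hr⟩ := chart_jointly_surjective ι h (e.inv x)
  have hr' : (chart ι h π₁ ≫ e.hom) r = x := by
    rw [Scheme.Hom.comp_apply, hr, ← Scheme.Hom.comp_apply, e.inv_hom_id]; rfl
  obtain ⟨_, ⟨e₀, rfl⟩, hre, hsub⟩ := PrimeSpectrum.isTopologicalBasis_basic_opens.exists_subset_of_mem_open
    (show r ∈ ((chart ι h π₁ ≫ e.hom) ≫ sX) ⁻¹ᵁ U.1 by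
      show sX ((chart ι h π₁ ≫ e.hom) r) ∈ U.1
      rw [hr']; exact e' hxV')
    (((chart ι h π₁ ≫ e.hom) ≫ sX) ⁻¹ᵁ U.1).2
  obtain ⟨r₀, rfl⟩ := (π₁.range_res_basic e₀).ge hre
  let π := π₁.basic e₀
  have hres : chart ι h π = sm (AP.res (π₁.basic_le e₀)) ≫ chart ι h π₁ := (chart_res ι h _).symm
  let c := chart ι h π ≫ e.hom
  let V := c.opensRange
  have hV : IsAffineOpen V := isAffineOpen_opensRange c
  have hxV : x ∈ V := ⟨r₀, by
    show (chart ι h π ≫ e.hom) r₀ = x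
    rw [hres, Category.assoc]; exact hr'⟩
  have hVU : V ≤ sX ⁻¹ᵁ U.1 := by
    rintro _ ⟨s, rfl⟩
    have := hsub ((π₁.range_res_basic e₀).le ⟨s, rfl⟩)
    show sX ((chart ι h π ≫ e.hom) s) ∈ U.1
    rw [hres]; exact this
  refine ⟨U, ⟨V, hV⟩, hxV, hVU, ?_⟩
  have hrng : V = e.hom ''ᵁ (chart ι h π).opensRange := Scheme.Hom.opensRange_comp _ _
  have hkey : ∀ {T : Scheme.{u}} (g : T ⟶ glued ι h), (g ≫ e.hom) ⁻¹ᵁ V = g ⁻¹ᵁ (chart ι h π).opensRange := fun g => by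
    rw [hrng, Scheme.Hom.comp_preimage, Scheme.Hom.preimage_image_eq]
  have ha : π.U ≤ (inX hcov ≫ e.hom) ⁻¹ᵁ V := by rw [hkey, inX_preimage, IsAffineOpen.opensRange_fromSpec]
  have hb : (inY hcov ≫ e.hom) ⁻¹ᵁ V = π.V := by rw [hkey, inY_preimage, IsAffineOpen.opensRange_fromSpec]
  have hc : ⊤ ≤ c ⁻¹ᵁ V := fun s _ => ⟨s, rfl⟩
  let φ := c.appLE V ⊤ hc ≫ (Scheme.ΓSpecIso (CommRingCat.of π.R)).hom
  haveI : IsIso (c.appLE V ⊤ hc) := by
    haveI : IsIso (c.app V) := Scheme.Hom.isIso_app _ _ le_rfl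
    rw [Scheme.Hom.appLE, show (homOfLE hc).op = (eqToHom (le_antisymm hc le_top)).op from rfl]
    infer_instance
  have hφ : Function.Bijective φ.hom := ConcreteCategory.bijective_of_isIso φ
  have hpa : (inX hcov ≫ e.hom).appLE V π.U ha = φ ≫ CommRingCat.ofHom π.pa := by
    rw [appLE_eq_of_fromSpec_comp _ π.hU c π.pa
      (by rw [← Category.assoc, fromSpec_inX, Category.assoc]) V ha hc, Category.assoc]
  have hpb : (inY hcov ≫ e.hom).appLE V π.V hb.ge = φ ≫ CommRingCat.ofHom π.pb := by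
    rw [appLE_eq_of_fromSpec_comp _ π.hV c π.pb
      (by rw [← Category.assoc, fromSpec_inY, Category.assoc]) V hb.ge hc, Category.assoc]
  have hker : (inY hcov ≫ e.hom).ker.ideal ⟨V, hV⟩ =
      RingHom.ker ((inY hcov ≫ e.hom).appLE V π.V hb.ge).hom := by
    rw [Scheme.Hom.ker_apply, Scheme.Hom.appLE, CommRingCat.hom_comp]
    refine (RingHom.ker_comp_of_injective _ ?_).symm
    rw [show (homOfLE hb.ge).op = (eqToHom hb.symm).op from rfl]
    exact (ConcreteCategory.bijective_of_isIso _).1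
  rw [Scheme.IdealSheafData.ideal_pow, Pi.pow_apply, hker]
  refine flat_pinch_pow (sX.appLE U.1 V hVU).hom ((inX hcov ≫ e.hom).appLE V π.U ha).hom _ ?_ ?_
    (ι.ker.ideal ⟨π.U, π.hU⟩) ?_ ?_ (fun m hm => ?_) n hn
  · rw [hpa, CommRingCat.hom_comp, RingHom.coe_comp]
    exact (injective_pa π).comp hφ.1
  · rw [Scheme.Hom.appLE, CommRingCat.hom_comp, RingHom.coe_comp]
    refine Function.Surjective.comp ?_ ((inY hcov ≫ e.hom).app_surjective V hV)
    rw [show (homOfLE hb.ge).op = (eqToHom hb.symm).op from rfl]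
    exact (ConcreteCategory.bijective_of_isIso _).2
  · rw [← ker_app_eq, ← image_ker_pb, hpa, hpb]
    ext y
    constructor
    · rintro ⟨z, hz, rfl⟩
      exact ⟨φ z, hz, rfl⟩
    · rintro ⟨z, hz, rfl⟩
      obtain ⟨z, rfl⟩ := hφ.2 z
      exact ⟨z, hz, rfl⟩
  · rw [← CommRingCat.hom_comp, Scheme.Hom.appLE_comp_appLE]
    exact HasRingHomProperty.appLE @Flat _ inferInstance U ⟨π.V, π.hV⟩ _
  · haveI := (flat_pow_subscheme ((inX hcov ≫ e.hom) ≫ sX) hι m hm).2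
    have := H29Blow.flat_appLE_quot ((inX hcov ≫ e.hom) ≫ sX) (ι.ker ^ m) U ⟨π.U, π.hU⟩
      (fun y hy => hVU (ha hy))
    rwa [← CommRingCat.hom_comp, Scheme.Hom.appLE_comp_appLE]

end Groth.Agent.H11Strict
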