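import Groth.Agent.H11Strict.BlowBir
import Groth.Agent.H17.Birat
import Groth.Agent.H11Cone.ToNormal
import Groth.Agent.H11Proj.ProperQProj
import Groth.Agent.H11Ample.AmpleOn

/-! Birational morphisms of projective varieties are blow-ups. -/

set_option autoImplicit false
set_option linter.style.haveILetI false
universe u

open CategoryTheory CategoryTheory.Limits AlgebraicGeometry TopologicalSpace

namespace Groth.Agent.H11Strict.BlowBir

/-- A birational morphism of integral schemes is an isomorphism over a nonempty open subset. -/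
theorem exists_open_isIso {X Y : Scheme.{u}} [IsIntegral X] [IsIntegral Y] (f : X ⟶ Y) [IsSeparated f]
    [LocallyOfFiniteType f] (hgen : f (genericPoint X) = genericPoint Y)
    (hbir : Function.Bijective (f.residueFieldMap (genericPoint X)).hom) :
    ∃ V : Y.Opens, (V : Set Y).Nonempty ∧ IsIso (f ∣_ V) := by
  haveI := H11Cone.isIso_stalkMap_of_bijective_residueFieldMap f hgen hbir
  obtain ⟨V, hV, hxV, -⟩ := exists_isAffineOpen_mem_and_subset (U := ⊤) (x := f (genericPoint X)) trivial
  obtain ⟨U, hU, hxU, hUV⟩ := exists_isAffineOpen_mem_and_subset (U := f ⁻¹ᵁ V) (x := genericPoint X) hxV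
  have hy : f (genericPoint X) ∈ genericPoints Y := by
    rw [genericPoints_eq_singleton, hgen]; rfl
  have hX : ∀ γ ∈ genericPoints X, γ = genericPoint X := fun γ hγ => by
    rwa [genericPoints_eq_singleton] at hγ
  obtain ⟨V', -, -, hxV', -, _⟩ := H17.Birat.exists_isIso_resLE f hU hV hUV hxU hy
    (fun z _ hz => H17.Birat.fibre_eq f _ hy (fun γ hγ _ => hX γ hγ) hz)
    (Or.inl ⟨inferInstance, fun γ hγ _ => by rw [genericPoints_eq_singleton] at hγ; rw [hgen]; exact hγ⟩)
  have e := H17.Birat.eq_preimage_of_isIso_resLE f (inf_le_right : U ⊓ f ⁻¹ᵁ V' ≤ f ⁻¹ᵁ V')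
    (fun γ hγ hγV => by rw [hX γ hγ] at hγV ⊢; exact ⟨hxU, hγV⟩)
  refine ⟨V', ⟨_, hxV'⟩, ?_⟩
  have key : ∀ (O : X.Opens) (h : O ≤ f ⁻¹ᵁ V'), O = f ⁻¹ᵁ V' → IsIso (f.resLE V' O h) → IsIso (f ∣_ V') := by
    rintro _ h rfl hiso
    rwa [Scheme.Hom.resLE_eq_morphismRestrict] at hiso
  exact key _ _ e ‹_›

theorem exists_isBlowUp_of_projective {k : Type u} [Field k] {X Y : Scheme.{u}} [IsIntegral X] [IsIntegral Y]
    (a b : ℕ) (iX : X ⟶ CohB1.ProjSpace a k) [IsClosedImmersion iX] (iY : Y ⟶ CohB1.ProjSpace b k)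
    [IsClosedImmersion iY] (f : X ⟶ Y)
    (hk : f ≫ iY ≫ CohB1.ProjSpace.toSpec b k = iX ≫ CohB1.ProjSpace.toSpec a k)
    (hgen : f (genericPoint X) = genericPoint Y)
    (hbir : Function.Bijective (f.residueFieldMap (genericPoint X)).hom) :
    ∃ I : Y.IdealSheafData, BlowUp.IsBlowUp f I := by
  haveI := H11Ample.compactSpace_projSpace a k
  haveI := H11Ample.compactSpace_projSpace b k
  haveI := H11Ample.quasiSeparatedSpace_projSpace a k
  haveI := H11Ample.quasiSeparatedSpace_projSpace b k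
  have hLX := H11Ample.isAmple_pullback_of_isAffineHom iX (H11Ample.isAmple_twistProjSpace a k)
  have hLY := H11Ample.isAmple_pullback_of_isAffineHom iY (H11Ample.isAmple_twistProjSpace b k)
  haveI := hLX.2.1
  haveI := hLY.2.1
  haveI : IsProper (CohB1.ProjSpace.toSpec a k) := H27Weil.isProper_toSpec a k
  haveI : IsProper (CohB1.ProjSpace.toSpec b k) := H27Weil.isProper_toSpec b k
  haveI : IsProper (f ≫ iY ≫ CohB1.ProjSpace.toSpec b k) := by rw [hk]; infer_instance
  haveI : IsProper f := IsProper.of_comp f (iY ≫ CohB1.ProjSpace.toSpec b k)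
  haveI : IsLocallyNoetherian Y := LocallyOfFiniteType.isLocallyNoetherian (iY ≫ CohB1.ProjSpace.toSpec b k)
  haveI : AlgebraicGeometry.IsNoetherian Y := {}
  haveI := H11Ample.quasiSeparatedSpace_of_isAmple hLX
  obtain ⟨n, i, hi, hif⟩ := H11Proj.isHProjective_of_isAmple f hLX
  haveI := hi
  have hU := exists_open_isIso f hgen hbir
  subst hif
  exact exists_isBlowUp (H11Proj.chartsOfClosedImmersion i) _ hLY hU

end Groth.Agent.H11Strict.BlowBir
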