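import Groth.Prelude.Def_BlowUp2
import Groth.Agent.H29Blow.Basic
import Mathlib

/-! Blowing up separates: the key local computation. -/

set_option autoImplicit false
universe u

open CategoryTheory CategoryTheory.Limits AlgebraicGeometry TopologicalSpace

namespace Groth.Agent.H11Strict

variable {X : Scheme.{u}}

/-- The prime ideal of sections not invertible at a point. -/
noncomputable def primeAt {U : X.Opens} {x : X} (hx : x ∈ U) : Ideal Γ(X, U) :=
  (IsLocalRing.maximalIdeal (X.presheaf.stalk x)).comap (X.presheaf.germ U x hx).hom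

theorem mem_primeAt_iff {U : X.Opens} {x : X} (hx : x ∈ U) (a : Γ(X, U)) :
    a ∈ primeAt hx ↔ x ∉ X.basicOpen a := by
  rw [Scheme.mem_basicOpen X a x hx]
  exact Iff.rfl

instance {U : X.Opens} {x : X} (hx : x ∈ U) : (primeAt hx).IsPrime := by
  unfold primeAt
  exact Ideal.comap_isPrime _ _

theorem map_primeAt_le {Y : Scheme.{u}} (g : Y ⟶ X) {V : X.Opens} {W : Y.Opens}
    (h : W ≤ g ⁻¹ᵁ V) {z : Y} (hz : z ∈ W) :
    (primeAt (x := g z) (h hz)).map (g.appLE V W h).hom ≤ primeAt hz := by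
  rw [Ideal.map_le_iff_le_comap]
  intro a ha
  rw [Ideal.mem_comap, mem_primeAt_iff]
  rw [mem_primeAt_iff] at ha
  intro hz'
  apply ha
  change z ∈ Y.basicOpen ((Y.presheaf.map (homOfLE h).op).hom ((g.app V).hom a)) at hz'
  rw [Scheme.basicOpen_res, ← Scheme.preimage_basicOpen] at hz'
  exact hz'.2

theorem mem_basicOpen_appLE {Y : Scheme.{u}} (g : Y ⟶ X) {V : X.Opens} {W : Y.Opens}
    (h : W ≤ g ⁻¹ᵁ V) {z : Y} (hz : z ∈ W) {a : Γ(X, V)} (ha : g z ∈ X.basicOpen a) :
    z ∈ Y.basicOpen ((g.appLE V W h).hom a) := by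
  change z ∈ Y.basicOpen ((Y.presheaf.map (homOfLE h).op).hom ((g.app V).hom a))
  rw [Scheme.basicOpen_res, ← Scheme.preimage_basicOpen]
  exact ⟨hz, ha⟩

theorem mem_basicOpen_of_notMem_support {E : X.IdealSheafData} {V : X.affineOpens} {e : Γ(X, V.1)}
    (he : E.ideal V = Ideal.span {e}) {x : X} (hx : x ∈ V.1) (hxE : x ∉ E.support) :
    x ∈ X.basicOpen e := by
  by_contra hc
  apply hxE
  rw [Scheme.IdealSheafData.mem_support_iff_of_mem (U := V) hx, he, Scheme.zeroLocus_span,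
    Scheme.mem_zeroLocus_iff]
  simpa using hc

theorem disjoint_closure_preimage {Y Z X' Y' Z' : Scheme.{u}} (p : Z ⟶ X) (U V : X.Opens)
    (f : Y ⟶ Z) (hY : ∀ y, p (f y) ∈ U)
    (I₁ I₂ : X.IdealSheafData)
    (h₁ : (V : Set X) \ (U : Set X) ⊆ (I₁.support : Set X)) (h₁' : Disjoint (I₁.support : Set X) (U : Set X))
    (h₂ : Disjoint (I₂.support : Set X) ((V : Set X) \ (U : Set X)))
    (hincl : I₂.comap p ≤ (I₁ * I₁).comap p ⊔ f.ker)
    (q : X' ⟶ X) (hq : BlowUp.IsEffCartierIdeal ((I₁ ⊔ I₂).comap q))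
    (t : Z' ⟶ Z) (s : Z' ⟶ X') (hts : t ≫ p = s ≫ q)
    (g : Y' ⟶ Z') [QuasiCompact g] (v : Y' ⟶ Y) (hv : v ≫ f = g ≫ t) :
    Disjoint (closure (Set.range (fun y => g y)))
      ((fun z => s z) ⁻¹' closure ((fun x' => q x') ⁻¹' ((V : Set X) \ (U : Set X)))) := by
  rw [Set.disjoint_left]
  intro z hz hz'
  obtain ⟨V', hxV, -, e, he, hE⟩ := H29Blow.exists_gen hq (Opens.mem_top (s z))
  have hsup : ∀ (x : X'), q x ∉ I₁.support ∨ q x ∉ I₂.support → x ∉ ((I₁ ⊔ I₂).comap q).support := by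
    intro x h hx
    rw [Scheme.IdealSheafData.support_comap] at hx
    rcases h with h | h
    · exact h (Scheme.IdealSheafData.support_antitone (le_sup_left : I₁ ≤ I₁ ⊔ I₂) hx)
    · exact h (Scheme.IdealSheafData.support_antitone (le_sup_right : I₂ ≤ I₁ ⊔ I₂) hx)
  have hle : ∀ J : X.IdealSheafData, J ≤ I₁ ⊔ I₂ → (J.comap q).ideal V' ≤ Ideal.span {e} := by
    intro J hJ
    rw [← hE]
    exact Scheme.IdealSheafData.comap_mono (f := q) hJ V'
  -- the first ideal is `e` times sections vanishing at `s z`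
  have hP1 : (I₁.comap q).ideal V' ≤ Ideal.span {e} * primeAt hxV := by
    intro c hc
    obtain ⟨a, rfl⟩ := Ideal.mem_span_singleton'.mp (hle I₁ le_sup_left hc)
    rw [mul_comm a e]
    refine Ideal.mul_mem_mul (Ideal.mem_span_singleton_self e) ?_
    rw [mem_primeAt_iff]
    intro hxa
    obtain ⟨x, hxa', hx⟩ := mem_closure_iff.mp hz' (X'.basicOpen a : X'.Opens) (X'.basicOpen a).isOpen hxa
    have hxV' : x ∈ V'.1 := X'.basicOpen_le a hxa'
    have hxe : x ∈ X'.basicOpen e := mem_basicOpen_of_notMem_support hE hxV'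
      (hsup x (Or.inr (fun h => Set.disjoint_left.mp h₂ h hx)))
    have hxs : x ∈ (I₁.comap q).support := by
      rw [Scheme.IdealSheafData.support_comap]
      exact h₁ hx
    rw [Scheme.IdealSheafData.mem_support_iff_of_mem (U := V') hxV', Scheme.mem_zeroLocus_iff] at hxs
    apply hxs _ hc
    rw [Scheme.basicOpen_mul]
    exact ⟨hxa', hxe⟩
  -- some element of the second ideal is `e` times a section invertible at `s z`
  obtain ⟨a₂, ha₂, hxa₂⟩ : ∃ a₂, e * a₂ ∈ (I₂.comap q).ideal V' ∧ s z ∈ X'.basicOpen a₂ := by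
    by_contra hcon
    push Not at hcon
    have hP2 : (I₂.comap q).ideal V' ≤ Ideal.span {e} * primeAt hxV := by
      intro c hc
      obtain ⟨a, rfl⟩ := Ideal.mem_span_singleton'.mp (hle I₂ le_sup_right hc)
      rw [mul_comm a e] at hc ⊢
      exact Ideal.mul_mem_mul (Ideal.mem_span_singleton_self e) ((mem_primeAt_iff _ _).mpr (hcon a hc))
    have hmem : e ∈ Ideal.span {e} * primeAt hxV := by
      have h1 : e ∈ ((I₁ ⊔ I₂).comap q).ideal V' := hE ▸ Ideal.mem_span_singleton_self e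
      rw [Scheme.IdealSheafData.comap_sup, Scheme.IdealSheafData.ideal_sup, Pi.sup_apply] at h1
      exact (sup_le hP1 hP2) h1
    obtain ⟨w, hw, hwe⟩ := Ideal.mem_span_singleton_mul.mp hmem
    have hw1 : w = 1 := by
      have h0 : (w - 1) * e = 0 := by rw [sub_mul, one_mul, mul_comm, hwe, sub_self]
      exact sub_eq_zero.mp ((mem_nonZeroDivisors_iff.mp he).2 _ h0)
    exact (Ideal.IsPrime.ne_top inferInstance) ((Ideal.eq_top_iff_one _).mpr (hw1 ▸ hw))
  -- go to an affine neighbourhood of `z`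
  obtain ⟨W, hW, hzW, hWV⟩ := exists_isAffineOpen_mem_and_subset (U := s ⁻¹ᵁ V'.1) (x := z) hxV
  have hWV' : W ≤ s ⁻¹ᵁ V'.1 := hWV
  set φ := (s.appLE V'.1 W hWV').hom with hφ
  have hI : ∀ J : X.IdealSheafData, (J.comap p).comap t = (J.comap q).comap s := fun J => by
    rw [← Scheme.IdealSheafData.comap_comp, ← Scheme.IdealSheafData.comap_comp, hts]
  have hmem : φ (e * a₂) ∈ Ideal.span {φ e} * (Ideal.span {φ e} * primeAt hzW) ⊔
      (f.ker.comap t).ideal ⟨W, hW⟩ := by
    have h1 : φ (e * a₂) ∈ ((I₂.comap q).comap s).ideal ⟨W, hW⟩ := by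
      rw [H29Blow.ideal_comap _ s V' ⟨W, hW⟩ hWV']
      exact Ideal.mem_map_of_mem _ ha₂
    have h2 := Scheme.IdealSheafData.comap_mono (f := t) hincl ⟨W, hW⟩
    simp only [Scheme.IdealSheafData.comap_sup, hI, H29Blow.comap_mul, Scheme.IdealSheafData.ideal_sup,
      Pi.sup_apply] at h2
    refine SetLike.le_def.mp (sup_le_sup_right ?_ _) (h2 h1)
    rw [Scheme.IdealSheafData.ideal_mul, Pi.mul_apply, H29Blow.ideal_comap _ s V' ⟨W, hW⟩ hWV', ← Ideal.map_mul]
    refine (Ideal.map_mono (Ideal.mul_mono hP1 hP1)).trans ?_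
    rw [Ideal.map_mul, Ideal.map_mul, Ideal.map_span, Set.image_singleton]
    refine (Ideal.mul_mono (Ideal.mul_mono le_rfl (map_primeAt_le s hWV' hzW))
      (Ideal.mul_mono le_rfl (map_primeAt_le s hWV' hzW))).trans ?_
    rw [mul_assoc]
    exact Ideal.mul_mono le_rfl Ideal.mul_le_right
  obtain ⟨c, hc, κ, hκ, hsum⟩ := Submodule.mem_sup.mp hmem
  obtain ⟨c', hc', rfl⟩ := Ideal.mem_span_singleton_mul.mp hc
  have hd : φ a₂ - c' ∈ primeAt hzW := by
    rw [mem_primeAt_iff]
    intro hzd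
    obtain ⟨_, hyd, y, rfl⟩ := mem_closure_iff.mp hz
      (Z'.basicOpen (φ a₂ - c') : Z'.Opens) (Z'.basicOpen _).isOpen hzd
    have hgW : g y ∈ W := Z'.basicOpen_le _ hyd
    have hge : g y ∈ Z'.basicOpen (φ e) := by
      refine mem_basicOpen_appLE s hWV' hgW (mem_basicOpen_of_notMem_support hE (hWV' hgW) (hsup _ (Or.inl ?_)))
      have hq' : q (s (g y)) = p (f (v y)) := by
        have hcomp : g ≫ s ≫ q = v ≫ f ≫ p := by rw [← hts, ← reassoc_of% hv]
        simpa only [Scheme.Hom.comp_apply] using congrArg (fun m : Y' ⟶ X => m y) hcomp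
      rw [hq']
      exact fun h => Set.disjoint_left.mp h₁' h (hY _)
    have hκ0 : g.app W κ = 0 := by
      have hk : f.ker.comap t ≤ g.ker := by
        rw [← Scheme.IdealSheafData.le_map_iff_comap_le, Scheme.IdealSheafData.map_ker, ← hv]
        exact Scheme.Hom.le_ker_comp _ _
      have := hk ⟨W, hW⟩ hκ
      rw [Scheme.Hom.ker_apply, RingHom.mem_ker] at this
      exact this
    have h0 : g.app W (φ e) * g.app W (φ a₂ - c') = 0 := by
      rw [← map_mul, ← hκ0]
      congr 1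
      rw [mul_sub, ← map_mul, ← hsum, add_sub_cancel_left]
    have he' : y ∈ Y'.basicOpen (g.app W (φ e)) := by
      rw [← Scheme.preimage_basicOpen]; exact hge
    have hd' : y ∈ Y'.basicOpen (g.app W (φ a₂ - c')) := by
      rw [← Scheme.preimage_basicOpen]; exact hyd
    have h3 : y ∈ Y'.basicOpen (g.app W (φ e) * g.app W (φ a₂ - c')) := by
      rw [Scheme.basicOpen_mul]
      exact ⟨he', hd'⟩
    rw [h0, Scheme.basicOpen_zero] at h3
    exact h3
  have hc'' : c' ∈ primeAt hzW := Ideal.mul_le_right hc'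
  have := Ideal.add_mem _ hd hc''
  rw [sub_add_cancel, mem_primeAt_iff] at this
  exact this (mem_basicOpen_appLE s hWV' hzW hxa₂)

end Groth.Agent.H11Strict
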