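import Groth.Prelude.Def_BlowUp2
import Groth.Agent.H11Strict.Separate
import Mathlib

/-! Blowing up the image ideal of the intersection separates closed subsets. -/

set_option autoImplicit false
universe u

open CategoryTheory CategoryTheory.Limits AlgebraicGeometry TopologicalSpace

namespace Groth.Agent.H11Strict

theorem inter_closure_eq_empty {X Z X' Z' : Scheme.{u}} (p : Z ⟶ X) (S : Set X) (T : Set Z)
    (A B : X.IdealSheafData) (J : Z.IdealSheafData)
    (hS : S ⊆ (B.support : Set X)) (hS' : Disjoint (A.support : Set X) S)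
    (hT : T ⊆ (J.support : Set Z)) (hT' : ∀ z ∈ T, p z ∉ A.support)
    (hBA : B ≤ A) (hA : A.comap p ≤ B.comap p ⊔ J)
    (q : X' ⟶ X) (hq : BlowUp.IsEffCartierIdeal (A.comap q))
    (t : Z' ⟶ Z) (s : Z' ⟶ X') (hts : t ≫ p = s ≫ q) :
    (fun z => s z) ⁻¹' closure ((fun x' => q x') ⁻¹' S) ∩ closure ((fun z => t z) ⁻¹' T) = ∅ := by
  refine Set.eq_empty_iff_forall_notMem.mpr ?_
  rintro z ⟨hz', hz⟩
  obtain ⟨V', hxV, -, e, he, hE⟩ := H29Blow.exists_gen hq (Opens.mem_top (s z))
  have hP : (B.comap q).ideal V' ≤ Ideal.span {e} * primeAt hxV := by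
    intro c hc
    have hc' : c ∈ Ideal.span {e} := hE ▸ Scheme.IdealSheafData.comap_mono (f := q) hBA V' hc
    obtain ⟨a, rfl⟩ := Ideal.mem_span_singleton'.mp hc'
    rw [mul_comm a e]
    refine Ideal.mul_mem_mul (Ideal.mem_span_singleton_self e) ?_
    rw [mem_primeAt_iff]
    intro hxa
    obtain ⟨x, hxa', hx⟩ := mem_closure_iff.mp hz' (X'.basicOpen a : X'.Opens) (X'.basicOpen a).isOpen hxa
    have hxV' : x ∈ V'.1 := X'.basicOpen_le a hxa'
    have hxe : x ∈ X'.basicOpen e := mem_basicOpen_of_notMem_support hE hxV' (by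
      rw [Scheme.IdealSheafData.support_comap]
      exact fun h => Set.disjoint_left.mp hS' h hx)
    have hxs : x ∈ (B.comap q).support := by
      rw [Scheme.IdealSheafData.support_comap]
      exact hS hx
    rw [Scheme.IdealSheafData.mem_support_iff_of_mem (U := V') hxV', Scheme.mem_zeroLocus_iff] at hxs
    apply hxs _ hc
    rw [Scheme.basicOpen_mul]
    exact ⟨hxa', hxe⟩
  obtain ⟨W, hW, hzW, hWV⟩ := exists_isAffineOpen_mem_and_subset (U := s ⁻¹ᵁ V'.1) (x := z) hxV
  have hWV' : W ≤ s ⁻¹ᵁ V'.1 := hWV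
  set φ := (s.appLE V'.1 W hWV').hom with hφ
  have hI : ∀ K : X.IdealSheafData, (K.comap p).comap t = (K.comap q).comap s := fun K => by
    rw [← Scheme.IdealSheafData.comap_comp, ← Scheme.IdealSheafData.comap_comp, hts]
  have hmem : φ e ∈ Ideal.span {φ e} * primeAt hzW ⊔ (J.comap t).ideal ⟨W, hW⟩ := by
    have h1 : φ e ∈ ((A.comap q).comap s).ideal ⟨W, hW⟩ := by
      rw [H29Blow.ideal_comap _ s V' ⟨W, hW⟩ hWV', hE]
      exact Ideal.mem_map_of_mem _ (Ideal.mem_span_singleton_self e)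
    have h2 := Scheme.IdealSheafData.comap_mono (f := t) hA ⟨W, hW⟩
    simp only [Scheme.IdealSheafData.comap_sup, hI, Scheme.IdealSheafData.ideal_sup,
      Pi.sup_apply] at h2
    refine SetLike.le_def.mp (sup_le_sup_right ?_ _) (h2 h1)
    rw [H29Blow.ideal_comap _ s V' ⟨W, hW⟩ hWV']
    refine (Ideal.map_mono hP).trans ?_
    rw [Ideal.map_mul, Ideal.map_span, Set.image_singleton]
    exact Ideal.mul_mono le_rfl (map_primeAt_le s hWV' hzW)
  obtain ⟨c, hc, κ, hκ, hsum⟩ := Submodule.mem_sup.mp hmem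
  obtain ⟨c', hc', rfl⟩ := Ideal.mem_span_singleton_mul.mp hc
  have hd : 1 - c' ∈ primeAt hzW := by
    rw [mem_primeAt_iff]
    intro hzd
    obtain ⟨y, hyd, hyT⟩ := mem_closure_iff.mp hz
      (Z'.basicOpen (1 - c') : Z'.Opens) (Z'.basicOpen _).isOpen hzd
    have hyW : y ∈ W := Z'.basicOpen_le _ hyd
    have hye : y ∈ Z'.basicOpen (φ e) := by
      refine mem_basicOpen_appLE s hWV' hyW (mem_basicOpen_of_notMem_support hE (hWV' hyW) ?_)
      rw [Scheme.IdealSheafData.support_comap]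
      show q (s y) ∉ A.support
      rw [← Scheme.Hom.comp_apply, ← hts]
      exact hT' _ hyT
    have hys : y ∈ (J.comap t).support := by
      rw [Scheme.IdealSheafData.support_comap]
      exact hT hyT
    rw [Scheme.IdealSheafData.mem_support_iff_of_mem (U := ⟨W, hW⟩) hyW, Scheme.mem_zeroLocus_iff] at hys
    apply hys _ hκ
    have hk : κ = φ e * (1 - c') := by rw [mul_sub, mul_one]; exact eq_sub_of_add_eq' hsum
    rw [hk, Scheme.basicOpen_mul]
    exact ⟨hye, hyd⟩
  have := Ideal.add_mem _ hd hc'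
  rw [sub_add_cancel] at this
  exact (Ideal.IsPrime.ne_top inferInstance) ((Ideal.eq_top_iff_one (primeAt hzW)).mpr this)

end Groth.Agent.H11Strict
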