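import Groth.Prelude.Def_BlowUp2
import Groth.Agent.H11Strict.Separate
import Groth.Agent.H7Lim.IdealSystem
import Mathlib

/-! An admissible centre separating closures. -/

set_option autoImplicit false
universe u

open CategoryTheory CategoryTheory.Limits AlgebraicGeometry TopologicalSpace

namespace Groth.Agent.H11Strict

theorem isFiniteTypeIdeal_sup {X : Scheme.{u}} {I J : X.IdealSheafData}
    (hI : BlowUp.IsFiniteTypeIdeal I) (hJ : BlowUp.IsFiniteTypeIdeal J) :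
    BlowUp.IsFiniteTypeIdeal (I ⊔ J) := fun A => by
  rw [Scheme.IdealSheafData.ideal_sup, Pi.sup_apply]
  exact Submodule.FG.sup (hI A) (hJ A)

theorem isFiniteTypeIdeal_mul {X : Scheme.{u}} {I J : X.IdealSheafData}
    (hI : BlowUp.IsFiniteTypeIdeal I) (hJ : BlowUp.IsFiniteTypeIdeal J) :
    BlowUp.IsFiniteTypeIdeal (I * J) := fun A => by
  rw [Scheme.IdealSheafData.ideal_mul, Pi.mul_apply]
  exact Submodule.FG.mul (hI A) (hJ A)

theorem exists_ft_le_disjoint {X : Scheme.{u}} [CompactSpace X] [QuasiSeparatedSpace X]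
    (J : X.IdealSheafData) (C : Set X) (hC : IsCompact C) (hd : Disjoint (J.support : Set X) C) :
    ∃ F ≤ J, BlowUp.IsFiniteTypeIdeal F ∧ Disjoint (F.support : Set X) C := by
  obtain ⟨F, hF⟩ := hC.elim_directed_cover
    (fun F : H7Lim.FTIdeal J => ((F.1.support : Set X))ᶜ) (fun F => F.1.support.2.isOpen_compl)
    (fun x hxC => by
      have h1 : x ∉ J.support := fun h => Set.disjoint_left.mp hd h hxC
      rw [← H7Lim.iSup_finiteType_eq J, Scheme.IdealSheafData.support_iSup] at h1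
      obtain ⟨F, hF⟩ : ∃ F : H7Lim.FTIdeal J, x ∉ F.1.support := by
        by_contra h
        push Not at h
        exact h1 (Closeds.mem_iInf.mpr h)
      exact Set.mem_iUnion.mpr ⟨F, hF⟩)
    (fun F G => ⟨⟨F.1 ⊔ G.1, sup_le F.2.1 G.2.1, isFiniteTypeIdeal_sup F.2.2 G.2.2⟩,
      Set.compl_subset_compl.mpr (Scheme.IdealSheafData.support_antitone le_sup_left),
      Set.compl_subset_compl.mpr (Scheme.IdealSheafData.support_antitone le_sup_right)⟩)
  exact ⟨F.1, F.2.1, F.2.2, Set.disjoint_left.mpr fun x hx hxC => hF hxC hx⟩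

theorem quasiCompact_ι {X : Scheme.{u}} [QuasiSeparatedSpace X] (U : X.Opens)
    (hU : IsCompact (U : Set X)) : QuasiCompact U.ι := by
  constructor
  intro V hV hVc
  rw [Topology.IsEmbedding.isCompact_iff U.ι.isOpenEmbedding.isEmbedding,
    Set.image_preimage_eq_inter_range, Scheme.Opens.range_ι]
  exact QuasiSeparatedSpace.inter_isCompact V U hV hVc U.isOpen hU

/-- The key step, on the open `O` off which nothing is to be separated. -/
theorem exists_centre {X₁ X₂ : Scheme.{u}} [CompactSpace X₁] [QuasiSeparatedSpace X₁]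
    [QuasiSeparatedSpace X₂] (q : X₂ ⟶ X₁) [QuasiCompact q]
    (V : X₁.Opens) (hV : IsCompact (V : Set X₁))
    (Z₁ : Set X₁) (hZ₁ : IsClosed Z₁) (hZ₁c : IsCompact Z₁ᶜ)
    (O : X₂.Opens) (hO : IsCompact (O : Set X₂)) (hOZ : ∀ x ∈ O, q x ∈ V → q x ∉ Z₁) :
    ∃ 𝓔 : X₁.IdealSheafData, BlowUp.IsFiniteTypeIdeal 𝓔 ∧
      (𝓔.support : Set X₁) ⊆ Z₁ \ (V : Set X₁) ∧
      ∀ (X₁' : Scheme.{u}) (c : X₁' ⟶ X₁), BlowUp.IsEffCartierIdeal (𝓔.comap c) →
        ∀ (P : Scheme.{u}) (t : P ⟶ X₂) (s : P ⟶ X₁'), t ≫ q = s ≫ c →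
        ∀ z : P, t z ∈ O → s z ∈ closure ((fun x => c x) ⁻¹' (Z₁ ∩ (V : Set X₁))) →
          z ∉ closure ((fun w => t w) ⁻¹' ((O : Set X₂) ∩ (q ⁻¹ᵁ V : Set X₂))) := by
  let W : X₁.Opens := ⟨(V : Set X₁) ∩ Z₁ᶜ, V.2.inter hZ₁.isOpen_compl⟩
  have hWc : IsCompact (W : Set X₁) :=
    QuasiSeparatedSpace.inter_isCompact _ _ V.2 hV hZ₁.isOpen_compl hZ₁c
  haveI : QuasiCompact O.ι := quasiCompact_ι O hO
  haveI : QuasiSeparatedSpace O.toScheme :=
    (isQuasiSeparated_iff_quasiSeparatedSpace _ O.2).mp (.of_quasiSeparatedSpace _)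
  let Y : O.toScheme.Opens := (O.ι ≫ q) ⁻¹ᵁ W
  haveI : QuasiCompact Y.ι :=
    quasiCompact_ι Y ((O.ι ≫ q).isCompact_preimage hWc)
  obtain ⟨I₁, hI₁le, hI₁, hI₁d⟩ := exists_ft_le_disjoint
    (Scheme.IdealSheafData.vanishingIdeal ⟨Z₁, hZ₁⟩) Z₁ᶜ hZ₁c
    (by rw [Scheme.IdealSheafData.coe_support_vanishingIdeal]; exact disjoint_compl_right)
  have hI₁Z : (I₁.support : Set X₁) = Z₁ := by
    refine subset_antisymm (fun x hx => by_contra fun h => Set.disjoint_left.mp hI₁d hx h) ?_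
    have := Scheme.IdealSheafData.support_antitone hI₁le
    rw [← SetLike.coe_subset_coe, Scheme.IdealSheafData.coe_support_vanishingIdeal] at this
    exact this
  let K := (I₁ * I₁).comap (O.ι ≫ q) ⊔ Y.ι.ker
  let J := (K.subschemeι ≫ O.ι ≫ q).ker
  have hrange : Set.range (K.subschemeι ≫ O.ι ≫ q) ⊆ (V : Set X₁)ᶜ := by
    rintro _ ⟨w, rfl⟩ hwV
    have hw : K.subschemeι w ∈ (K.support : Set O.toScheme) := by
      rw [← Scheme.IdealSheafData.range_subschemeι]; exact ⟨w, rfl⟩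
    have hw' : K.subschemeι w ∈ ((I₁ * I₁).comap (O.ι ≫ q)).support :=
      Scheme.IdealSheafData.support_antitone (le_sup_left : _ ≤ K) hw
    rw [Scheme.IdealSheafData.support_comap, Scheme.IdealSheafData.support_mul] at hw'
    have hw'' : (O.ι ≫ q) (K.subschemeι w) ∈ I₁.support ⊔ I₁.support := hw'
    rw [sup_idem, ← SetLike.mem_coe, hI₁Z] at hw''
    exact hOZ _ (K.subschemeι w).2 hwV hw''
  have hJd : Disjoint (J.support : Set X₁) (V : Set X₁) := by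
    rw [Scheme.Hom.support_ker]
    exact Set.disjoint_left.mpr fun x hx hxV =>
      (closure_minimal hrange V.2.isClosed_compl hx) hxV
  obtain ⟨F, hFJ, hF, hFd⟩ := exists_ft_le_disjoint J V hV hJd
  let I₂ := F ⊔ I₁ * I₁
  have hI₂K : I₂.comap (O.ι ≫ q) ≤ (I₁ * I₁).comap (O.ι ≫ q) ⊔ Y.ι.ker := by
    rw [Scheme.IdealSheafData.comap_sup]
    refine sup_le ?_ le_sup_left
    rw [← Scheme.IdealSheafData.le_map_iff_comap_le]
    refine hFJ.trans ?_
    change (K.subschemeι ≫ O.ι ≫ q).ker ≤ K.map (O.ι ≫ q)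
    rw [← Scheme.IdealSheafData.map_ker, Scheme.IdealSheafData.ker_subschemeι]
  have hI₂d : (I₂.support : Set X₁) ⊆ Z₁ \ (V : Set X₁) := by
    intro x hx
    refine ⟨?_, fun hxV => Set.disjoint_left.mp hFd
      (Scheme.IdealSheafData.support_antitone (le_sup_left : F ≤ I₂) hx) hxV⟩
    have := Scheme.IdealSheafData.support_antitone (le_sup_right : I₁ * I₁ ≤ I₂) hx
    rw [Scheme.IdealSheafData.support_mul] at this
    rw [← hI₁Z]
    simpa using this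
  refine ⟨I₁ ⊔ I₂, isFiniteTypeIdeal_sup hI₁ (isFiniteTypeIdeal_sup hF (isFiniteTypeIdeal_mul hI₁ hI₁)),
    fun x hx => hI₂d (Scheme.IdealSheafData.support_antitone (le_sup_right : I₂ ≤ I₁ ⊔ I₂) hx), ?_⟩
  intro X₁' c hc P t s hts z hzO hzs hzc
  have hsq : (t ∣_ O) ≫ O.ι ≫ q = ((t ⁻¹ᵁ O).ι ≫ s) ≫ c := by
    rw [← Category.assoc, morphismRestrict_ι, Category.assoc, hts, Category.assoc]
  haveI : QuasiCompact ((t ∣_ O) ⁻¹ᵁ Y).ι :=
    MorphismProperty.of_isPullback (P := @QuasiCompact) (isPullback_morphismRestrict (t ∣_ O) Y) inferInstance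
  have hd := disjoint_closure_preimage (O.ι ≫ q) W V Y.ι (fun y => y.2) I₁ I₂
    (fun x hx => by rw [hI₁Z]; exact by_contra fun h => hx.2 ⟨hx.1, h⟩)
    (by rw [hI₁Z]; exact Set.disjoint_left.mpr fun x hx hxW => hxW.2 hx)
    (Set.disjoint_left.mpr fun x hx hx' => (hI₂d hx).2 hx'.1)
    hI₂K c hc (t ∣_ O) ((t ⁻¹ᵁ O).ι ≫ s) hsq ((t ∣_ O) ⁻¹ᵁ Y).ι ((t ∣_ O) ∣_ Y)
    (morphismRestrict_ι _ _)
  let z' : (t ⁻¹ᵁ O).toScheme := ⟨z, hzO⟩
  refine Set.disjoint_left.mp hd (show z' ∈ _ from ?_) ?_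
  · rw [mem_closure_iff]
    intro N hN hzN
    obtain ⟨_, ⟨w, hw, rfl⟩, hwO, hwV⟩ := mem_closure_iff.mp hzc _
      ((t ⁻¹ᵁ O).ι.isOpenEmbedding.isOpenMap N hN) ⟨z', hzN, rfl⟩
    refine ⟨w, hw, ⟨⟨w, ?_⟩, rfl⟩⟩
    have e : O.ι ((t ∣_ O) w) = t ((t ⁻¹ᵁ O).ι w) := by
      rw [← Scheme.Hom.comp_apply, morphismRestrict_ι, Scheme.Hom.comp_apply]
    have h2 : q (O.ι ((t ∣_ O) w)) ∈ W := by
      rw [e]; exact ⟨hwV, hOZ _ hwO hwV⟩
    exact h2
  · change (((t ⁻¹ᵁ O).ι ≫ s) z') ∈ closure ((fun x => c x) ⁻¹' ((V : Set X₁) \ (W : Set X₁)))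
    have hset : (V : Set X₁) \ (W : Set X₁) = Z₁ ∩ (V : Set X₁) := by
      ext x
      constructor
      · rintro ⟨hxV, hxW⟩
        exact ⟨by_contra fun h => hxW ⟨hxV, h⟩, hxV⟩
      · rintro ⟨hxZ, hxV⟩
        exact ⟨hxV, fun h => h.2 hxZ⟩
    rw [hset]
    exact hzs

end Groth.Agent.H11Strict
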